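import Cfsg.Agent.Lib.SL2Module.Natural
import Cfsg.Agent.Lib.Linear.Unipotent

/-!
`SL₂(F)`-subgroups of a group acting by conjugation on an abelian subgroup.
-/

set_option autoImplicit false

namespace Cfsg.Agent.Lib.SL2Module

open Matrix
open scoped Pointwise
open Cfsg.Agent.Lib.PLocal.SLTwo (up lo)

theorem charP_of_card {F : Type*} [Field F] [Fintype F] {p n : ℕ} [hp : Fact p.Prime]
    (hF : Fintype.card F = p ^ n) : CharP F p := by
  obtain ⟨q, hq⟩ := CharP.exists F
  obtain ⟨m, hqp, hm⟩ := @FiniteField.card F _ _ q hq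
  have : q = p := (Nat.prime_dvd_prime_iff_eq hqp hp.out).1
    (hqp.dvd_of_dvd_pow (hF ▸ hm ▸ dvd_pow_self q m.pos.ne'))
  exact this ▸ hq

/-- An isomorphism with `SL₂(F)` can be chosen to send a given Sylow subgroup to `up F`. -/
theorem exists_iso_up {G : Type*} [Group G] [Finite G] {F : Type*} [Field F] [Fintype F] {p : ℕ}
    [Fact p.Prime] [CharP F p] (h : Nonempty (G ≃* SpecialLinearGroup (Fin 2) F)) (S : Sylow p G) :
    ∃ e : G ≃* SpecialLinearGroup (Fin 2) F, ∀ l : G, l ∈ (S : Subgroup G) ↔ ∃ x, e l = up x := by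
  obtain ⟨e₀⟩ := h
  have hsurj : Function.Surjective e₀.toMonoidHom := e₀.surjective
  obtain ⟨g, hg⟩ := Linear.exists_sylow_eq_conj_SL p (S.mapSurjective hsurj)
  rw [Sylow.coe_mapSurjective] at hg
  refine ⟨e₀.trans (MulAut.conj g⁻¹), fun l => ?_⟩
  have h2 : l ∈ (S : Subgroup G) ↔ e₀ l ∈ (S : Subgroup G).map e₀.toMonoidHom :=
    (Subgroup.mem_map_iff_mem (f := e₀.toMonoidHom) e₀.injective).symm
  rw [h2, hg, Subgroup.mem_pointwise_smul_iff_inv_smul_mem, MonoidHom.mem_range, ← map_inv]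
  constructor
  · rintro ⟨t, ht⟩
    refine ⟨t.toAdd, ht.symm.trans ?_⟩
    exact Subtype.ext (Linear.coe_uSL t)
  · rintro ⟨x, hx⟩
    refine ⟨Multiplicative.ofAdd x, ?_⟩
    refine Eq.trans ?_ hx.symm
    exact Subtype.ext (Linear.coe_uSL _)

/-- Conjugation of `G` on `Additive V`. -/
def conjEnd {X : Type*} [Group X] (G V : Subgroup X) (hGV : G ≤ Subgroup.normalizer (V : Set X)) :
    ↥G →* AddMonoid.End (Additive ↥V) where
  toFun l := MonoidHom.toAdditive
    { toFun := fun v => ⟨(l : X) * v * (l : X)⁻¹,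
        (Subgroup.mem_normalizer_iff.1 (hGV l.2) (v : X)).1 v.2⟩
      map_one' := Subtype.ext (by simp)
      map_mul' := fun a b => Subtype.ext (by simp [mul_assoc]) }
  map_one' := AddMonoidHom.ext fun v => Additive.toMul.injective (Subtype.ext (by
    show (1 : X) * (Additive.toMul v : ↥V) * 1⁻¹ = ((Additive.toMul v : ↥V) : X)
    simp))
  map_mul' a b := AddMonoidHom.ext fun v => Additive.toMul.injective (Subtype.ext (by
    show (a : X) * b * (Additive.toMul v : ↥V) * ((a : X) * b)⁻¹ =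
      (a : X) * ((b : X) * (Additive.toMul v : ↥V) * (b : X)⁻¹) * (a : X)⁻¹
    group))

theorem conjEnd_apply {X : Type*} [Group X] (G V : Subgroup X)
    (hGV : G ≤ Subgroup.normalizer (V : Set X)) (l : ↥G) (v : Additive ↥V) :
    ((Additive.toMul (conjEnd G V hGV l v) : ↥V) : X) =
      (l : X) * (Additive.toMul v : ↥V) * (l : X)⁻¹ := rfl

end Cfsg.Agent.Lib.SL2Module
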