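import Mathlib
import Cfsg.Agent.Lib.PLocal.SLTwo

/-!
Irreducible quadratic modules of `SL₂(F)` are natural, and Smith's criterion `|V| ≤ |C_V(U)|²` for
quadratic action.
-/

set_option autoImplicit false

namespace Cfsg.Agent.Lib.SL2Module

open Matrix
open Cfsg.Agent.Lib.PLocal.SLTwo (up lo up_add lo_add up_zero lo_zero val_mul closure_eq_top)

variable {F : Type*} [Field F]

/-- `[[0,t],[-t⁻¹,0]]`. -/
def weyl (t : F) : SpecialLinearGroup (Fin 2) F := up t * lo (-t⁻¹) * up t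

theorem weyl_mul_up {t : F} (ht : t ≠ 0) (s : F) : weyl t * up s = lo (-(s * t⁻¹ * t⁻¹)) * weyl t := by
  apply Subtype.ext
  simp only [weyl, val_mul]
  ext i j
  fin_cases i <;> fin_cases j <;>
    simp [up, lo, Matrix.mul_apply, Fin.sum_univ_two] <;>
      first | ring1 | (field_simp; ring1) | (field_simp; simp) | simp [ht]

theorem weyl_mul_lo {t : F} (ht : t ≠ 0) (s : F) : weyl t * lo s = up (-(s * t * t)) * weyl t := by
  apply Subtype.ext
  simp only [weyl, val_mul]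
  ext i j
  fin_cases i <;> fin_cases j <;>
    simp [up, lo, Matrix.mul_apply, Fin.sum_univ_two] <;>
      first | ring1 | (field_simp; ring1) | (field_simp; simp) | simp [ht]

variable {A : Type*} [AddCommGroup A]
variable (ρ : SpecialLinearGroup (Fin 2) F →* AddMonoid.End A)

/-- `up t - 1` as an endomorphism. -/
def nU (t : F) : AddMonoid.End A := ρ (up t) - 1

/-- `lo t - 1` as an endomorphism. -/
def nL (t : F) : AddMonoid.End A := ρ (lo t) - 1

theorem map_up (t : F) (v : A) : ρ (up t) v = v + nU ρ t v := by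
  show ρ (up t) v = v + (ρ (up t) v - v)
  abel

theorem map_lo (t : F) (v : A) : ρ (lo t) v = v + nL ρ t v := by
  show ρ (lo t) v = v + (ρ (lo t) v - v)
  abel

theorem map_mul_apply (g h : SpecialLinearGroup (Fin 2) F) (v : A) : ρ (g * h) v = ρ g (ρ h v) := by
  rw [map_mul]; rfl

theorem map_inv_apply (g : SpecialLinearGroup (Fin 2) F) (v : A) : ρ g⁻¹ (ρ g v) = v := by
  rw [← map_mul_apply, inv_mul_cancel, map_one]; rfl

theorem map_apply_inv (g : SpecialLinearGroup (Fin 2) F) (v : A) : ρ g (ρ g⁻¹ v) = v := by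
  rw [← map_mul_apply, mul_inv_cancel, map_one]; rfl

/-- The fixed points of the upper root group. -/
def fixU : AddSubgroup A := ⨅ t : F, (nU ρ t).ker

/-- The fixed points of the lower root group. -/
def fixL : AddSubgroup A := ⨅ t : F, (nL ρ t).ker

theorem mem_fixU {v : A} : v ∈ fixU ρ ↔ ∀ t, nU ρ t v = 0 := by
  simp only [fixU, AddSubgroup.mem_iInf]; rfl

theorem mem_fixL {v : A} : v ∈ fixL ρ ↔ ∀ t, nL ρ t v = 0 := by
  simp only [fixL, AddSubgroup.mem_iInf]; rfl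

theorem map_up_fix {v : A} (h : v ∈ fixU ρ) (t : F) : ρ (up t) v = v := by
  rw [map_up, (mem_fixU ρ).1 h t, add_zero]

theorem map_lo_fix {v : A} (h : v ∈ fixL ρ) (t : F) : ρ (lo t) v = v := by
  rw [map_lo, (mem_fixL ρ).1 h t, add_zero]

theorem weyl_fixU {t : F} (ht : t ≠ 0) {v : A} (h : v ∈ fixU ρ) : ρ (weyl t) v ∈ fixL ρ := by
  rw [mem_fixL]
  intro s
  have he : weyl t * up (-(s * t * t)) = lo s * weyl t := by
    rw [weyl_mul_up ht]; congr 2; field_simp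
  show ρ (lo s) (ρ (weyl t) v) - ρ (weyl t) v = 0
  rw [← map_mul_apply, ← he, map_mul_apply, map_up_fix ρ h, sub_self]

theorem weyl_fixL {t : F} (ht : t ≠ 0) {v : A} (h : v ∈ fixL ρ) : ρ (weyl t) v ∈ fixU ρ := by
  rw [mem_fixU]
  intro s
  have he : weyl t * lo (-(s * t⁻¹ * t⁻¹)) = up s * weyl t := by
    rw [weyl_mul_lo ht]; congr 2; field_simp
  show ρ (up s) (ρ (weyl t) v) - ρ (weyl t) v = 0
  rw [← map_mul_apply, ← he, map_mul_apply, map_lo_fix ρ h, sub_self]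

theorem weyl_inv {t : F} (ht : t ≠ 0) : (weyl t)⁻¹ = weyl (-t) := by
  rw [inv_eq_iff_mul_eq_one]
  apply Subtype.ext
  simp only [weyl, val_mul]
  ext i j
  fin_cases i <;> fin_cases j <;>
    simp [up, lo, Matrix.mul_apply, Fin.sum_univ_two] <;> field_simp <;> ring

/-- The invariant subgroups are trivial. -/
def IsIrred : Prop :=
  ∀ W : AddSubgroup A, (∀ t, ∀ v ∈ W, ρ (up t) v ∈ W) → (∀ t, ∀ v ∈ W, ρ (lo t) v ∈ W) →
    W = ⊥ ∨ W = ⊤

variable {ρ}

theorem eq_zero_of_fix (hirr : IsIrred ρ) (hnt : ∃ g v, ρ g v ≠ v) {v : A} (hU : v ∈ fixU ρ)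
    (hL : v ∈ fixL ρ) : v = 0 := by
  rcases hirr (fixU ρ ⊓ fixL ρ) (fun t v hv => by rw [map_up_fix ρ hv.1]; exact hv)
    (fun t v hv => by rw [map_lo_fix ρ hv.2]; exact hv) with h | h
  · have hv : v ∈ fixU ρ ⊓ fixL ρ := ⟨hU, hL⟩
    rwa [h] at hv
  · exfalso
    obtain ⟨g, w, hgw⟩ := hnt
    let K : Subgroup (SpecialLinearGroup (Fin 2) F) :=
      { carrier := {g | ∀ w, ρ g w = w}
        one_mem' := fun w => by rw [map_one]; rfl
        mul_mem' := fun {a b} ha hb w => by rw [map_mul_apply, hb, ha]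
        inv_mem' := fun {a} ha w => by conv_lhs => rw [← ha w]; rw [map_inv_apply] }
    have hK : (Set.range (up (F := F)) ∪ Set.range (lo (F := F))) ⊆ K := by
      rintro _ (⟨t, rfl⟩ | ⟨t, rfl⟩) w
      · exact map_up_fix ρ (h.ge (AddSubgroup.mem_top w)).1 t
      · exact map_lo_fix ρ (h.ge (AddSubgroup.mem_top w)).2 t
    exact hgw (((Subgroup.closure_le K).2 hK) (closure_eq_top.ge (Subgroup.mem_top g)) w)

theorem split_eq (hirr : IsIrred ρ) (hnt : ∃ g v, ρ g v ≠ v) {a a' b b' : A}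
    (ha : a ∈ fixU ρ) (ha' : a' ∈ fixU ρ) (hb : b ∈ fixL ρ) (hb' : b' ∈ fixL ρ)
    (h : a + b = a' + b') : a = a' ∧ b = b' := by
  have h1 : a - a' = b' - b := by
    rw [sub_eq_sub_iff_add_eq_add, h, add_comm]
  have h2 := eq_zero_of_fix hirr hnt (sub_mem ha ha') (h1 ▸ sub_mem hb' hb)
  rw [sub_eq_zero] at h2
  exact ⟨h2, by rw [h2] at h; exact add_left_cancel h⟩

/-- Smith's criterion: `|A| ≤ |C_A(U)|²` forces quadratic action. -/
theorem quadratic_of_card_le [Finite A] [Finite F] {p : ℕ} [Fact p.Prime] [CharP F p]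
    (hA : IsPGroup p (Multiplicative A)) (hirr : IsIrred ρ) (hnt : ∃ g v, ρ g v ≠ v)
    (hcard : Nat.card A ≤ Nat.card (fixU ρ) ^ 2) (t s : F) (v : A) :
    nU ρ t (nU ρ s v) = 0 := by
  classical
  -- `A = C_A(U) ⊕ C_A(L)`
  have hcardL : Nat.card (fixL ρ) = Nat.card (fixU ρ) := by
    refine Nat.card_congr
      { toFun := fun v => ⟨ρ (weyl 1) v, weyl_fixL ρ one_ne_zero v.2⟩
        invFun := fun v => ⟨ρ (weyl 1)⁻¹ v, by
          rw [weyl_inv one_ne_zero]; exact weyl_fixU ρ (neg_ne_zero.2 one_ne_zero) v.2⟩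
        left_inv := fun v => Subtype.ext (map_inv_apply ρ _ _)
        right_inv := fun v => Subtype.ext (map_apply_inv ρ _ _) }
  have hsum : ∀ v : A, ∃ a ∈ fixU ρ, ∃ b ∈ fixL ρ, a + b = v := by
    let f : fixU ρ × fixL ρ → A := fun x => (x.1 : A) + x.2
    have hf : Function.Injective f := fun x y hxy => by
      obtain ⟨h1, h2⟩ := split_eq hirr hnt x.1.2 y.1.2 x.2.2 y.2.2 hxy
      exact Prod.ext (Subtype.ext h1) (Subtype.ext h2)
    have hb : Function.Bijective f := hf.bijective_of_nat_card_le (by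
      rw [Nat.card_prod, hcardL, ← pow_two]; exact hcard)
    intro v
    obtain ⟨x, hx⟩ := hb.2 v
    exact ⟨x.1, x.1.2, x.2, x.2.2, hx⟩
  -- `K`: the vectors of `C_A(L)` fixed modulo `C_A(U)`
  let K : AddSubgroup A := fixL ρ ⊓ ⨅ t : F, (fixU ρ).comap (nU ρ t)
  let K' : AddSubgroup A := fixU ρ ⊓ ⨅ t : F, (fixL ρ).comap (nL ρ t)
  have hK : ∀ {b}, b ∈ K ↔ b ∈ fixL ρ ∧ ∀ t, nU ρ t b ∈ fixU ρ := by
    intro b; simp only [K, AddSubgroup.mem_inf, AddSubgroup.mem_iInf]; rfl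
  have hK' : ∀ {b}, b ∈ K' ↔ b ∈ fixU ρ ∧ ∀ t, nL ρ t b ∈ fixL ρ := by
    intro b; simp only [K', AddSubgroup.mem_inf, AddSubgroup.mem_iInf]; rfl
  have hKw : ∀ t : F, t ≠ 0 → ∀ b ∈ K, ρ (weyl t) b ∈ K' := by
    intro t ht b hb
    rw [hK] at hb
    refine hK'.2 ⟨weyl_fixL ρ ht hb.1, fun s => ?_⟩
    have he : weyl t * up (-(s * t * t)) = lo s * weyl t := by
      rw [weyl_mul_up ht]; congr 2; field_simp
    show ρ (lo s) (ρ (weyl t) b) - ρ (weyl t) b ∈ fixL ρ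
    rw [← map_mul_apply, ← he, map_mul_apply, map_up, map_add, add_sub_cancel_left]
    exact weyl_fixU ρ ht (hb.2 _)
  have hK'w : ∀ t : F, t ≠ 0 → ∀ a ∈ K', ρ (weyl t) a ∈ K := by
    intro t ht b hb
    rw [hK'] at hb
    refine hK.2 ⟨weyl_fixU ρ ht hb.1, fun s => ?_⟩
    have he : weyl t * lo (-(s * t⁻¹ * t⁻¹)) = up s * weyl t := by
      rw [weyl_mul_lo ht]; congr 2; field_simp
    show ρ (up s) (ρ (weyl t) b) - ρ (weyl t) b ∈ fixU ρ
    rw [← map_mul_apply, ← he, map_mul_apply, map_lo, map_add, add_sub_cancel_left]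
    exact weyl_fixL ρ ht (hb.2 _)
  have hNK : ∀ t, ∀ b ∈ K, nU ρ t b ∈ K' := by
    intro t b hb
    rcases eq_or_ne t 0 with rfl | ht
    · rw [show nU ρ (0 : F) = 0 by rw [nU, up_zero, map_one, sub_self]]
      exact zero_mem K'
    set a := ρ (weyl t) b with ha
    have haK := hKw t ht b hb
    have h1 : ρ (lo t⁻¹) a = b + nU ρ t b := by
      rw [← map_up]
      calc ρ (lo t⁻¹) a = ρ (lo t⁻¹) (ρ (up (-t)) a) := by rw [map_up_fix ρ (hK'.1 haK).1]
        _ = ρ (lo t⁻¹ * up (-t) * weyl t) b := by rw [map_mul_apply, map_mul_apply, ← ha]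
        _ = ρ (up t) b := ?_
      congr 2
      rw [show weyl t = up t * lo (-t⁻¹) * up t from rfl]
      apply Subtype.ext
      simp only [val_mul]
      ext i j
      fin_cases i <;> fin_cases j <;> simp [up, lo, Matrix.mul_apply, Fin.sum_univ_two] <;> ring
    rw [map_lo, add_comm b] at h1
    obtain ⟨h2, -⟩ := split_eq hirr hnt (hK'.1 haK).1 ((hK.1 hb).2 t) ((hK'.1 haK).2 _)
      (hK.1 hb).1 h1
    exact h2 ▸ haK
  have hMK : ∀ t, ∀ a ∈ K', nL ρ t a ∈ K := by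
    intro t a ha
    rcases eq_or_ne t 0 with rfl | ht
    · rw [show nL ρ (0 : F) = 0 by rw [nL, lo_zero, map_one, sub_self]]
      exact zero_mem K
    set s := -t⁻¹ with hs
    have hs0 : s ≠ 0 := neg_ne_zero.2 (inv_ne_zero ht)
    set b := ρ (weyl s) a with hb
    have hbK := hK'w s hs0 a ha
    have h1 : a + nL ρ t a = ρ (up (-s)) b := by
      rw [← map_lo, hb, ← map_mul_apply]
      conv_rhs => rw [show up (-s) * weyl s = lo (-s⁻¹) * up s by
        rw [show weyl s = up s * lo (-s⁻¹) * up s from rfl, mul_assoc (up s), ← mul_assoc, ← up_add,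
          neg_add_cancel, up_zero, one_mul]]
      rw [map_mul_apply, map_up_fix ρ (hK'.1 ha).1, show -s⁻¹ = t by rw [hs]; simp]
    rw [map_up, add_comm b] at h1
    obtain ⟨-, h2⟩ := split_eq hirr hnt (hK'.1 ha).1 ((hK.1 hbK).2 _) ((hK'.1 ha).2 _)
      (hK.1 hbK).1 h1
    exact h2 ▸ hbK
  have hiU : ∀ t, ∀ v ∈ K ⊔ K', ρ (up t) v ∈ K ⊔ K' := fun t v hv => by
    obtain ⟨b, hb, a, ha, rfl⟩ := AddSubgroup.mem_sup.1 hv
    rw [map_add, map_up_fix ρ (hK'.1 ha).1, map_up]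
    exact add_mem (add_mem (AddSubgroup.mem_sup_left hb) (AddSubgroup.mem_sup_right (hNK t b hb)))
      (AddSubgroup.mem_sup_right ha)
  have hiL : ∀ t, ∀ v ∈ K ⊔ K', ρ (lo t) v ∈ K ⊔ K' := fun t v hv => by
    obtain ⟨b, hb, a, ha, rfl⟩ := AddSubgroup.mem_sup.1 hv
    rw [map_add, map_lo_fix ρ (hK.1 hb).1, map_lo]
    exact add_mem (AddSubgroup.mem_sup_left hb)
      (add_mem (AddSubgroup.mem_sup_right ha) (AddSubgroup.mem_sup_left (hMK t a ha)))
  rcases hirr (K ⊔ K') hiU hiL with h | h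
  · -- `K` is nonzero: a fixed point of a `p`-group on a nontrivial `p`-group
    exfalso
    have hK0 : K = ⊥ := le_bot_iff.1 (le_sup_left.trans h.le)
    have hU : (fixU ρ) ≠ ⊤ := fun ht => by
      obtain ⟨g, w, hgw⟩ := hnt
      have hL : (fixL ρ) = ⊤ := eq_top_iff.2 fun v _ => by
        have hv := weyl_fixU ρ (neg_ne_zero.2 one_ne_zero)
          (v := ρ (weyl (-1 : F))⁻¹ v) (ht.ge (AddSubgroup.mem_top _))
        rwa [map_apply_inv] at hv
      exact hgw (by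
        have := eq_zero_of_fix hirr ⟨g, w, hgw⟩ (v := w) (ht.ge (AddSubgroup.mem_top _))
          (hL.ge (AddSubgroup.mem_top _))
        rw [this, map_zero])
    letI act : MulAction (Multiplicative F) (A ⧸ fixU ρ) :=
      { smul := fun t => QuotientAddGroup.map (fixU ρ) (fixU ρ) (ρ (up t.toAdd)) (fun v hv => by
          show ρ (up t.toAdd) v ∈ fixU ρ
          rw [map_up_fix ρ hv]; exact hv)
        one_smul := fun x => by
          induction x using QuotientAddGroup.induction_on with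
          | H v =>
            show ((ρ (up (0 : F)) v : A) : A ⧸ fixU ρ) = _
            rw [up_zero, map_one]; rfl
        mul_smul := fun x y z => by
          induction z using QuotientAddGroup.induction_on with
          | H v =>
            show ((ρ (up (x.toAdd + y.toAdd)) v : A) : A ⧸ fixU ρ) =
              ((ρ (up x.toAdd) (ρ (up y.toAdd) v) : A) : A ⧸ fixU ρ)
            rw [up_add, map_mul_apply] }
    have hp : IsPGroup p (Multiplicative F) := fun x => ⟨1, by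
      rw [pow_one]; exact Multiplicative.toAdd.injective (by
        rw [toAdd_pow, toAdd_one, nsmul_eq_mul, CharP.cast_eq_zero, zero_mul])⟩
    have hdvd : p ∣ Nat.card (A ⧸ fixU ρ) := by
      obtain ⟨k, hk⟩ := hA.exists_card_eq
      rw [Nat.card_congr Multiplicative.toAdd] at hk
      obtain ⟨j, -, hj⟩ := (Nat.dvd_prime_pow (Fact.out : p.Prime)).1
        (hk ▸ (fixU ρ).index_dvd_card)
      rw [← AddSubgroup.index_eq_card, hj]
      refine dvd_pow_self p ?_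
      rintro rfl
      exact hU (AddSubgroup.index_eq_one.1 (by simpa using hj))
    obtain ⟨x, hx, hx0⟩ := hp.exists_fixed_point_of_prime_dvd_card_of_fixed_point
      (A ⧸ fixU ρ) hdvd (a := 0) (fun t => map_zero _)
    obtain ⟨v, rfl⟩ := QuotientAddGroup.mk_surjective x
    obtain ⟨a, ha, b, hb, rfl⟩ := hsum v
    apply hx0
    have hbK : b ∈ K := hK.2 ⟨hb, fun t => by
      have h1 : ((ρ (up t) (a + b) : A) : A ⧸ fixU ρ) = ((a + b : A) : A ⧸ fixU ρ) :=
        hx (Multiplicative.ofAdd t)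
      rw [QuotientAddGroup.eq_iff_sub_mem, map_add, map_up_fix ρ ha, add_sub_add_left_eq_sub,
        map_up, add_sub_cancel_left] at h1
      exact h1⟩
    rw [hK0, AddSubgroup.mem_bot] at hbK
    rw [hbK, add_zero]
    exact ((QuotientAddGroup.eq_zero_iff a).2 ha).symm
  · obtain ⟨a, ha, b, hb, rfl⟩ := hsum v
    obtain ⟨b₀, hb₀, a₀, ha₀, he⟩ := AddSubgroup.mem_sup.1 (h.ge (AddSubgroup.mem_top b))
    obtain ⟨-, h2⟩ := split_eq hirr hnt (zero_mem _) (hK'.1 ha₀).1 hb (hK.1 hb₀).1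
      (by rw [zero_add, ← he, add_comm])
    rw [map_add, (mem_fixU ρ).1 ha s, zero_add]
    exact (mem_fixU ρ).1 ((hK.1 (h2 ▸ hb₀)).2 s) t

section Quadratic

/-- `C_A(U) ∩ C_A(L) = 0`. -/
def Split (ρ : SpecialLinearGroup (Fin 2) F →* AddMonoid.End A) : Prop :=
  ∀ v, v ∈ fixU ρ → v ∈ fixL ρ → v = 0

/-- The upper root group acts quadratically. -/
def Quad (ρ : SpecialLinearGroup (Fin 2) F →* AddMonoid.End A) : Prop :=
  ∀ t s v, nU ρ t (nU ρ s v) = 0

/-- `nU t ∘ nL 1`: the scalar `t` on `C_A(U)`. -/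
def phi (ρ : SpecialLinearGroup (Fin 2) F →* AddMonoid.End A) (t : F) (a : A) : A :=
  nU ρ t (nL ρ 1 a)

theorem Split.eq (hs : Split ρ) {a a' b b' : A} (ha : a ∈ fixU ρ) (ha' : a' ∈ fixU ρ)
    (hb : b ∈ fixL ρ) (hb' : b' ∈ fixL ρ) (h : a + b = a' + b') : a = a' ∧ b = b' := by
  have h1 : a - a' = b' - b := by rw [sub_eq_sub_iff_add_eq_add, h, add_comm]
  have h2 := hs _ (sub_mem ha ha') (h1 ▸ sub_mem hb' hb)
  rw [sub_eq_zero] at h2
  exact ⟨h2, by rw [h2] at h; exact add_left_cancel h⟩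

theorem Quad.nU_mem (hq : Quad ρ) (s : F) (v : A) : nU ρ s v ∈ fixU ρ :=
  (mem_fixU ρ).2 fun t => hq t s v

theorem Quad.nL_mem (hq : Quad ρ) (s : F) (v : A) : nL ρ s v ∈ fixL ρ := by
  obtain ⟨u, rfl⟩ : ∃ u, ρ (weyl (1 : F)) u = v := ⟨_, map_apply_inv ρ _ _⟩
  have he : lo s * weyl (1 : F) = weyl 1 * up (-s) := by
    rw [weyl_mul_up one_ne_zero]; simp
  show ρ (lo s) (ρ (weyl 1) u) - ρ (weyl 1) u ∈ fixL ρ
  rw [← map_mul_apply, he, map_mul_apply, map_up, map_add, add_sub_cancel_left]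
  exact weyl_fixU ρ one_ne_zero (hq.nU_mem _ _)

theorem Quad.nU_add (hq : Quad ρ) (s t : F) (v : A) :
    nU ρ (s + t) v = nU ρ s v + nU ρ t v := by
  show ρ (up (s + t)) v - v = _
  rw [up_add, map_mul_apply, map_up ρ t v, map_add, map_up_fix ρ (hq.nU_mem t v), map_up]
  abel

theorem Quad.nL_add (hq : Quad ρ) (s t : F) (v : A) :
    nL ρ (s + t) v = nL ρ s v + nL ρ t v := by
  show ρ (lo (s + t)) v - v = _
  rw [lo_add, map_mul_apply, map_lo ρ t v, map_add, map_lo_fix ρ (hq.nL_mem t v), map_lo]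
  abel

theorem nU_zero (v : A) : nU ρ (0 : F) v = 0 := by
  show ρ (up 0) v - v = 0
  rw [up_zero, map_one]; exact sub_self v

theorem nL_zero (v : A) : nL ρ (0 : F) v = 0 := by
  show ρ (lo 0) v - v = 0
  rw [lo_zero, map_one]; exact sub_self v

theorem Quad.nL_neg (hq : Quad ρ) (t : F) (v : A) : nL ρ (-t) v = -nL ρ t v := by
  rw [eq_neg_iff_add_eq_zero, ← hq.nL_add, neg_add_cancel, nL_zero]

theorem Quad.weyl_apply_fixU (hq : Quad ρ) (hs : Split ρ) {t : F} (ht : t ≠ 0) {a : A}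
    (ha : a ∈ fixU ρ) :
    nU ρ t (nL ρ t⁻¹ a) = a ∧ ρ (weyl t) a = -nL ρ t⁻¹ a := by
  have h1 : ρ (weyl t) a = (a - nU ρ t (nL ρ t⁻¹ a)) + -nL ρ t⁻¹ a := by
    rw [weyl, map_mul_apply, map_mul_apply, map_up_fix ρ ha, map_lo, hq.nL_neg, map_add,
      map_up_fix ρ ha, map_neg, map_up]
    abel
  obtain ⟨h2, h3⟩ := hs.eq (zero_mem _) (sub_mem ha (hq.nU_mem _ _))
    (weyl_fixU ρ ht ha) (neg_mem (hq.nL_mem _ _)) (by rw [zero_add]; exact h1)
  exact ⟨(sub_eq_zero.1 h2.symm).symm, h3⟩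

theorem Quad.weyl_apply_fixL (hq : Quad ρ) (hs : Split ρ) {t : F} (ht : t ≠ 0) {b : A}
    (hb : b ∈ fixL ρ) :
    nL ρ t⁻¹ (nU ρ t b) = b ∧ ρ (weyl t) b = nU ρ t b := by
  set c := b - nL ρ t⁻¹ (nU ρ t b) with hc
  have hcL : c ∈ fixL ρ := sub_mem hb (hq.nL_mem _ _)
  have h1 : ρ (weyl t) b = (nU ρ t c + nU ρ t b) + c := by
    rw [weyl, map_mul_apply, map_mul_apply, map_up ρ t b, map_lo, map_add (nL ρ (-t⁻¹)),
      (mem_fixL ρ).1 hb, zero_add, hq.nL_neg,
      show b + nU ρ t b + -nL ρ t⁻¹ (nU ρ t b) = c + nU ρ t b by rw [hc]; abel,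
      map_add, map_up, map_up_fix ρ (hq.nU_mem _ _)]
    abel
  obtain ⟨h2, h3⟩ := hs.eq (weyl_fixL ρ ht hb) (add_mem (hq.nU_mem _ _) (hq.nU_mem _ _))
    (zero_mem _) hcL (by rw [add_zero]; exact h1)
  refine ⟨(sub_eq_zero.1 h3.symm).symm, ?_⟩
  rw [h2, ← h3, map_zero, zero_add]

theorem Quad.phi_mem (hq : Quad ρ) (t : F) (a : A) : phi ρ t a ∈ fixU ρ := hq.nU_mem _ _

theorem Quad.phi_one (hq : Quad ρ) (hs : Split ρ) {a : A} (ha : a ∈ fixU ρ) : phi ρ 1 a = a := by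
  simpa [phi] using (hq.weyl_apply_fixU hs one_ne_zero ha).1

theorem Quad.phi_add (hq : Quad ρ) (x y : F) (a : A) :
    phi ρ (x + y) a = phi ρ x a + phi ρ y a := hq.nU_add _ _ _

theorem Quad.key (hq : Quad ρ) (hs : Split ρ) {t : F} (ht : t ≠ 0) (s : F) {a : A}
    (ha : a ∈ fixU ρ) :
    nL ρ t⁻¹ (phi ρ s a) = nL ρ (s * t⁻¹ * t⁻¹) (phi ρ t a) := by
  set b := nL ρ 1 a
  have hb : b ∈ fixL ρ := hq.nL_mem _ _
  have h1 : ρ (weyl t) (ρ (up s) b) = ρ (lo (-(s * t⁻¹ * t⁻¹))) (ρ (weyl t) b) := by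
    rw [← map_mul_apply, weyl_mul_up ht, map_mul_apply]
  rw [map_up, map_add, (hq.weyl_apply_fixL hs ht hb).2,
    (hq.weyl_apply_fixU hs ht (hq.nU_mem _ _)).2, map_lo, hq.nL_neg] at h1
  exact neg_injective (add_left_cancel h1)

theorem Quad.nL_eq_phi (hq : Quad ρ) (hs : Split ρ) (s : F) {a : A} (ha : a ∈ fixU ρ) :
    nL ρ s a = nL ρ 1 (phi ρ s a) := by
  have := hq.key hs one_ne_zero s ha
  rw [inv_one, mul_one, mul_one, hq.phi_one hs ha] at this
  exact this.symm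

theorem Quad.jordan (hq : Quad ρ) (hs : Split ρ) {t : F} (ht : t ≠ 0) (u : F) {a : A}
    (ha : a ∈ fixU ρ) : phi ρ (t * u * t) a = phi ρ t (phi ρ u (phi ρ t a)) := by
  have h1 := hq.key hs ht (t * u * t) ha
  rw [show t * u * t * t⁻¹ * t⁻¹ = u by field_simp, hq.nL_eq_phi hs u (hq.phi_mem t a)] at h1
  have h2 := congrArg (nU ρ t) h1
  rw [(hq.weyl_apply_fixU hs ht (hq.phi_mem _ _)).1] at h2
  exact h2

theorem Quad.phi_mul [Finite F] (hq : Quad ρ) (hs : Split ρ) (x y : F) {a : A}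
    (ha : a ∈ fixU ρ) : phi ρ (x * y) a = phi ρ x (phi ρ y a) := by
  rcases eq_or_ne x 0 with rfl | hx
  · simp only [zero_mul, phi, nU_zero]
  rcases eq_or_ne y 0 with rfl | hy
  · simp only [mul_zero, phi, nU_zero, map_zero]
  obtain ⟨g, hg⟩ := IsCyclic.exists_generator (α := Fˣ)
  have hpow : ∀ k : ℕ, ∀ a ∈ fixU ρ, phi ρ ((g : F) ^ k) a = (phi ρ (g : F))^[k] a := by
    intro k
    induction k using Nat.twoStepInduction with
    | zero => intro a ha; simpa using hq.phi_one hs ha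
    | one => intro a ha; simp
    | more k ih _ =>
      intro a ha
      rw [show (g : F) ^ (k + 2) = g * g ^ k * g by rw [pow_succ, pow_succ']]
      rw [hq.jordan hs g.ne_zero _ ha, ih _ (hq.phi_mem _ a),
        ← Function.iterate_succ_apply' (phi ρ (g : F)),
        ← Function.iterate_succ_apply (phi ρ (g : F))]
  obtain ⟨i, hi⟩ : ∃ k : ℕ, g ^ k = Units.mk0 x hx :=
    mem_powers_iff_mem_zpowers.2 (hg (Units.mk0 x hx))
  obtain ⟨j, hj⟩ : ∃ k : ℕ, g ^ k = Units.mk0 y hy :=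
    mem_powers_iff_mem_zpowers.2 (hg (Units.mk0 y hy))
  have ex : (g : F) ^ i = x := by simpa using congrArg Units.val hi
  have ey : (g : F) ^ j = y := by simpa using congrArg Units.val hj
  rw [← ex, ← ey, ← pow_add, hpow _ a ha, hpow _ _ (hq.phi_mem _ a), hpow _ a ha,
    Function.iterate_add_apply]

/-- Every vector fixed by `U` spans a natural submodule. -/
theorem Quad.exists_embedding [Finite F] (hq : Quad ρ) (hs : Split ρ) {a₀ : A}
    (ha₀ : a₀ ∈ fixU ρ) (ha₀0 : a₀ ≠ 0) :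
    ∃ f : (Fin 2 → F) →+ A, Function.Injective f ∧ f ![1, 0] = a₀ ∧
      ∀ (g : SpecialLinearGroup (Fin 2) F) x, ρ g (f x) = f (g.1 *ᵥ x) := by
  let f : (Fin 2 → F) →+ A :=
    { toFun := fun x => phi ρ (x 0) a₀ + nL ρ (x 1) a₀
      map_zero' := by simp only [Pi.zero_apply, phi, nU_zero, nL_zero, add_zero]
      map_add' := fun x y => by
        simp only [Pi.add_apply, hq.phi_add, hq.nL_add]
        abel }
  have hequiv : ∀ (γ : SpecialLinearGroup (Fin 2) F) x, ρ γ (f x) = f (γ.1 *ᵥ x) := by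
    let K : Subgroup (SpecialLinearGroup (Fin 2) F) :=
      { carrier := {γ | ∀ x, ρ γ (f x) = f (γ.1 *ᵥ x)}
        one_mem' := fun x => by
          rw [map_one, Matrix.SpecialLinearGroup.coe_one, Matrix.one_mulVec]; rfl
        mul_mem' := fun {a b} ha hb x => by
          rw [map_mul_apply, hb, ha, Matrix.mulVec_mulVec]; rfl
        inv_mem' := fun {a} ha x => by
          have h1 : f x = ρ a (f ((a⁻¹).1 *ᵥ x)) := by
            rw [ha, Matrix.mulVec_mulVec, ← Matrix.SpecialLinearGroup.coe_mul, mul_inv_cancel,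
              Matrix.SpecialLinearGroup.coe_one, Matrix.one_mulVec]
          rw [h1, map_inv_apply] }
    have hK : (Set.range (up (F := F)) ∪ Set.range (lo (F := F))) ⊆ K := by
      rintro _ (⟨t, rfl⟩ | ⟨t, rfl⟩) x
      · show ρ (up t) (phi ρ (x 0) a₀ + nL ρ (x 1) a₀) = phi ρ _ a₀ + nL ρ _ a₀
        have e0 : ((up t).1 *ᵥ x) 0 = x 0 + t * x 1 := by
          simp [up, Matrix.mulVec, dotProduct, Fin.sum_univ_two]
        have e1 : ((up t).1 *ᵥ x) 1 = x 1 := by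
          simp [up, Matrix.mulVec, dotProduct, Fin.sum_univ_two]
        rw [e0, e1, hq.phi_add, hq.phi_mul hs t (x 1) ha₀, map_add,
          map_up_fix ρ (hq.phi_mem _ _), map_up, hq.nL_eq_phi hs (x 1) ha₀]
        simp only [phi]
        abel
      · show ρ (lo t) (phi ρ (x 0) a₀ + nL ρ (x 1) a₀) = phi ρ _ a₀ + nL ρ _ a₀
        have e0 : ((lo t).1 *ᵥ x) 0 = x 0 := by
          simp [lo, Matrix.mulVec, dotProduct, Fin.sum_univ_two]
        have e1 : ((lo t).1 *ᵥ x) 1 = t * x 0 + x 1 := by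
          simp [lo, Matrix.mulVec, dotProduct, Fin.sum_univ_two]
        rw [e0, e1, hq.nL_add, hq.nL_eq_phi hs (t * x 0) ha₀, hq.phi_mul hs t (x 0) ha₀, map_add,
          map_lo_fix ρ (hq.nL_mem _ _), map_lo, hq.nL_eq_phi hs t (hq.phi_mem _ a₀)]
        abel
    exact fun γ => (Subgroup.closure_le K).2 hK (closure_eq_top.ge (Subgroup.mem_top γ))
  have hinjphi : ∀ x : F, phi ρ x a₀ = 0 → x = 0 := by
    intro x hx
    by_contra h
    apply ha₀0
    have := hq.phi_mul hs x⁻¹ x ha₀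
    rwa [inv_mul_cancel₀ h, hq.phi_one hs ha₀, hx, show phi ρ x⁻¹ 0 = 0 by simp [phi]] at this
  refine ⟨f, ?_, ?_, hequiv⟩
  · rw [injective_iff_map_eq_zero]
    intro x hx
    obtain ⟨h0, h1⟩ := hs.eq (hq.phi_mem (x 0) a₀) (zero_mem _) (hq.nL_mem (x 1) a₀) (zero_mem _)
      (by rw [add_zero]; exact hx)
    have h1' : x 1 = 0 := hinjphi _ (by
      have h2 := congrArg (nU ρ 1) h1
      rw [map_zero, hq.nL_eq_phi hs (x 1) ha₀] at h2
      have h3 := (hq.weyl_apply_fixU hs one_ne_zero (hq.phi_mem (x 1) a₀)).1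
      rw [inv_one] at h3
      rwa [h3] at h2)
    ext i
    fin_cases i
    · exact hinjphi _ h0
    · exact h1'
  · show phi ρ (![(1 : F), 0] 0) a₀ + nL ρ (![(1 : F), 0] 1) a₀ = a₀
    simp [nL_zero, hq.phi_one hs ha₀]

/-- The image of a natural module meets any invariant subgroup trivially or lies in it. -/
theorem range_le_or_disjoint (f : (Fin 2 → F) →+ A)
    (hf : ∀ (g : SpecialLinearGroup (Fin 2) F) x, ρ g (f x) = f (g.1 *ᵥ x)) (W : AddSubgroup A)
    (hW : ∀ g, ∀ v ∈ W, ρ g v ∈ W) : f.range ≤ W ∨ f.range ⊓ W = ⊥ := by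
  by_cases h : ∀ x, f x ∈ W → f x = 0
  · right
    refine eq_bot_iff.2 fun v hv => ?_
    obtain ⟨⟨x, rfl⟩, hv⟩ := AddSubgroup.mem_inf.1 hv
    exact AddSubgroup.mem_bot.2 (h x hv)
  · left
    push Not at h
    obtain ⟨x, hx, hx0⟩ := h
    have hx' : x ≠ 0 := by rintro rfl; exact hx0 f.map_zero
    have he : f ![1, 0] ∈ W := by
      by_cases h1 : x 1 = 0
      · have h0 : x 0 ≠ 0 := fun h0 => hx' (funext fun i => by fin_cases i <;> assumption)
        obtain ⟨g, hg⟩ : ∃ g : SpecialLinearGroup (Fin 2) F, g.1 = !![(x 0)⁻¹, 0; 0, x 0] :=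
          ⟨⟨!![(x 0)⁻¹, 0; 0, x 0], by simp [Matrix.det_fin_two, h0]⟩, rfl⟩
        have := hW g _ hx
        rw [hf, hg] at this
        convert this using 2
        funext i; fin_cases i <;> simp [Matrix.mulVec, dotProduct, Fin.sum_univ_two, h0, h1]
      · obtain ⟨g, hg⟩ : ∃ g : SpecialLinearGroup (Fin 2) F, g.1 = !![0, (x 1)⁻¹; -(x 1), x 0] :=
          ⟨⟨!![0, (x 1)⁻¹; -(x 1), x 0], by simp [Matrix.det_fin_two, h1]⟩, rfl⟩
        have := hW g _ hx
        rw [hf, hg] at this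
        convert this using 2
        funext i; fin_cases i <;> simp [Matrix.mulVec, dotProduct, Fin.sum_univ_two, h1, mul_comm]
    rintro _ ⟨y, rfl⟩
    by_cases hy1 : y 1 = 0
    · by_cases hy0 : y 0 = 0
      · rw [show y = 0 from funext fun i => by fin_cases i <;> assumption, map_zero]
        exact zero_mem W
      · obtain ⟨g, hg⟩ : ∃ g : SpecialLinearGroup (Fin 2) F, g.1 = !![y 0, 0; 0, (y 0)⁻¹] :=
          ⟨⟨!![y 0, 0; 0, (y 0)⁻¹], by simp [Matrix.det_fin_two, hy0]⟩, rfl⟩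
        have := hW g _ he
        rw [hf, hg] at this
        convert this using 2
        funext i; fin_cases i <;> simp [Matrix.mulVec, dotProduct, Fin.sum_univ_two, hy1]
    · obtain ⟨g, hg⟩ : ∃ g : SpecialLinearGroup (Fin 2) F, g.1 = !![y 0, -(y 1)⁻¹; y 1, 0] :=
        ⟨⟨!![y 0, -(y 1)⁻¹; y 1, 0], by simp [Matrix.det_fin_two, hy1]⟩, rfl⟩
      have := hW g _ he
      rw [hf, hg] at this
      convert this using 2
      funext i; fin_cases i <;> simp [Matrix.mulVec, dotProduct, Fin.sum_univ_two]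

/-- Complete reducibility. -/
theorem Quad.exists_complement [Finite A] [Finite F] (hq : Quad ρ) (hs : Split ρ)
    (htop : fixU ρ ⊔ fixL ρ = ⊤) (K : AddSubgroup A) (hK : ∀ g, ∀ v ∈ K, ρ g v ∈ K) :
    ∃ C : AddSubgroup A, (∀ g, ∀ v ∈ C, ρ g v ∈ C) ∧ C ⊓ K = ⊥ ∧ C ⊔ K = ⊤ := by
  obtain ⟨C, ⟨hC, hCK⟩, hmax⟩ := (Set.toFinite
    {C : AddSubgroup A | (∀ g, ∀ v ∈ C, ρ g v ∈ C) ∧ C ⊓ K = ⊥}).exists_maximal
    ⟨⊥, fun g v hv => by rw [AddSubgroup.mem_bot] at hv ⊢; rw [hv, map_zero], bot_inf_eq _⟩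
  refine ⟨C, hC, hCK, ?_⟩
  have hS : ∀ g, ∀ v ∈ C ⊔ K, ρ g v ∈ C ⊔ K := by
    intro g v hv
    obtain ⟨c, hc, k, hk, rfl⟩ := AddSubgroup.mem_sup.1 hv
    rw [map_add]
    exact add_mem (AddSubgroup.mem_sup_left (hC g c hc)) (AddSubgroup.mem_sup_right (hK g k hk))
  have hU : fixU ρ ≤ C ⊔ K := by
    intro a ha
    by_contra haS
    have ha0 : a ≠ 0 := fun h => haS (h ▸ zero_mem _)
    obtain ⟨f, -, hfe, hf⟩ := hq.exists_embedding hs ha ha0
    rcases range_le_or_disjoint f hf _ hS with h | h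
    · exact haS (h ⟨_, hfe⟩)
    have hinv : ∀ g, ∀ v ∈ C ⊔ f.range, ρ g v ∈ C ⊔ f.range := by
      intro g v hv
      obtain ⟨c, hc, _, ⟨x, rfl⟩, rfl⟩ := AddSubgroup.mem_sup.1 hv
      rw [map_add, hf]
      exact add_mem (AddSubgroup.mem_sup_left (hC g c hc)) (AddSubgroup.mem_sup_right ⟨_, rfl⟩)
    have hdis : (C ⊔ f.range) ⊓ K = ⊥ := by
      refine eq_bot_iff.2 fun v hv => ?_
      obtain ⟨h1, h2⟩ := AddSubgroup.mem_inf.1 hv
      obtain ⟨c, hc, y, hy, rfl⟩ := AddSubgroup.mem_sup.1 h1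
      have hy' : y ∈ f.range ⊓ (C ⊔ K) := ⟨hy, by
        have := sub_mem (AddSubgroup.mem_sup_right (S := C) h2) (AddSubgroup.mem_sup_left (T := K) hc)
        rwa [add_sub_cancel_left] at this⟩
      rw [h, AddSubgroup.mem_bot] at hy'
      rw [hy', add_zero] at h2 ⊢
      exact hCK.le ⟨hc, h2⟩
    exact haS (AddSubgroup.mem_sup_left
      (hmax ⟨hinv, hdis⟩ le_sup_left (AddSubgroup.mem_sup_right ⟨_, hfe⟩)))
  rw [eq_top_iff, ← htop, sup_le_iff]
  refine ⟨hU, fun v hv => ?_⟩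
  have h1 := hS (weyl 1)⁻¹ _ (hU (weyl_fixL ρ one_ne_zero hv))
  rwa [map_inv_apply] at h1

end Quadratic

/-- An irreducible quadratic `SL₂(F)`-module is natural. -/
theorem exists_natural [Finite F] (hirr : IsIrred ρ) (hnt : ∃ g v, ρ g v ≠ v)
    (hq : ∀ t s v, nU ρ t (nU ρ s v) = 0) :
    ∃ f : (Fin 2 → F) ≃+ A, ∀ (g : SpecialLinearGroup (Fin 2) F) x, ρ g (f x) = f (g.1 *ᵥ x) := by
  have hs : Split ρ := fun v hU hL => eq_zero_of_fix hirr hnt hU hL
  have hq' : Quad ρ := hq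
  obtain ⟨a, ha, ha0⟩ : ∃ a ∈ fixU ρ, a ≠ 0 := by
    by_contra hall
    push Not at hall
    obtain ⟨γ, w, hw⟩ := hnt
    have hwU : w ∈ fixU ρ := (mem_fixU ρ).2 fun t => hall _ (hq'.nU_mem t w)
    exact hw (by rw [hall w hwU, map_zero])
  obtain ⟨f, hinj, hfe, hf⟩ := hq'.exists_embedding hs ha ha0
  have hsurj : Function.Surjective f := by
    have hiU : ∀ t, ∀ v ∈ f.range, ρ (up t) v ∈ f.range := by
      rintro t _ ⟨x, rfl⟩; exact ⟨_, (hf _ x).symm⟩
    have hiL : ∀ t, ∀ v ∈ f.range, ρ (lo t) v ∈ f.range := by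
      rintro t _ ⟨x, rfl⟩; exact ⟨_, (hf _ x).symm⟩
    rcases hirr f.range hiU hiL with h | h
    · exfalso
      apply ha0
      have hm : a ∈ f.range := ⟨_, hfe⟩
      rwa [h, AddSubgroup.mem_bot] at hm
    · exact fun v => h.ge (AddSubgroup.mem_top v)
  exact ⟨AddEquiv.ofBijective f ⟨hinj, hsurj⟩, fun g x => hf g x⟩

end Cfsg.Agent.Lib.SL2Module
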