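import Cfsg.Agent.Lib.SL2Module.Higman
import Cfsg.Agent.Lib.SL2Module.Conj
import Cfsg.Agent.Lib.SuzukiAbelian.SLTwoChar2

/-!
Extensions of a `2`-group by `SL₂(2ⁿ)`, `n ≥ 2`, in which an element of order three acts
fixed-point-freely: the kernel is elementary abelian (G. Higman).
-/

set_option autoImplicit false

namespace Cfsg.Agent.Lib.SL2Module

open Matrix
open scoped commutatorElement
open Cfsg.Agent.Lib.PLocal.SLTwo (up lo up_add lo_add up_zero lo_zero val_mul)

universe u v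

variable {F : Type v} [Field F]

local notation "SL" => Matrix.SpecialLinearGroup (Fin 2) F

theorem gamma_sq [CharP F 2] {t : F} (ht : t ≠ 0) :
    (up t * lo t⁻¹) * (up t * lo t⁻¹) = lo t⁻¹ * up t := by
  apply Subtype.ext
  simp only [val_mul]
  ext i j
  fin_cases i <;> fin_cases j <;>
    simp [up, lo, Matrix.mul_apply, Fin.sum_univ_two, ht, CharTwo.add_self_eq_zero]

theorem gamma_cube [CharP F 2] {t : F} (ht : t ≠ 0) :
    (up t * lo t⁻¹) * ((up t * lo t⁻¹) * (up t * lo t⁻¹)) = 1 := by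
  rw [gamma_sq ht, mul_assoc, ← mul_assoc (lo t⁻¹) (lo t⁻¹), ← lo_add, CharTwo.add_self_eq_zero,
    lo_zero, one_mul, ← up_add, CharTwo.add_self_eq_zero, up_zero]

theorem gamma_ne_one [CharP F 2] {t : F} (ht : t ≠ 0) : up t * lo t⁻¹ ≠ 1 := by
  intro h
  have := congrFun (congrFun (congrArg Subtype.val h) 0) 1
  rw [val_mul] at this
  simp [up, lo, Matrix.mul_apply, Fin.sum_univ_two, ht] at this

theorem cyclic_subgroup_unique {M : Type*} [Group M] [Finite M] [IsCyclic M] {A B : Subgroup M}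
    (h : Nat.card A = Nat.card B) : A = B := by
  classical
  have := Fintype.ofFinite M
  have key : ∀ C : Subgroup M, (C : Set M) = {x : M | x ^ Nat.card C = 1} := by
    intro C
    refine Set.eq_of_subset_of_ncard_le (fun x hx => ?_) ?_
    · exact orderOf_dvd_iff_pow_eq_one.1 (C.orderOf_dvd_natCard hx)
    · rw [← Nat.card_coe_set_eq (C : Set M), Set.ncard_eq_toFinset_card', Set.toFinset_ofPred]
      exact IsCyclic.card_pow_eq_one_le Nat.card_pos
  exact SetLike.coe_injective ((key A).trans (h ▸ (key B).symm))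

/-- All subgroups of order three of `SL₂(2ⁿ)` are conjugate. -/
theorem exists_conj_of_orderOf_three [Finite F] [CharP F 2] (g γ : SL) (hg : orderOf g = 3)
    (hγ : orderOf γ = 3) : ∃ c : SL, c * γ * c⁻¹ = g ∨ c * (γ * γ) * c⁻¹ = g := by
  haveI : Fact (Nat.Prime 3) := ⟨Nat.prime_three⟩
  have hp : ∀ a : SL, orderOf a = 3 → IsPGroup 3 ↥(Subgroup.zpowers a) := fun a ha =>
    IsPGroup.of_card (n := 1) (by rw [Nat.card_zpowers, ha, pow_one])
  obtain ⟨P, hP⟩ := (hp g hg).exists_le_sylow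
  obtain ⟨P', hP'⟩ := (hp γ hγ).exists_le_sylow
  obtain ⟨c, hc⟩ := MulAction.exists_smul_eq SL P' P
  set γ' := c * γ * c⁻¹ with hγ'
  have hmem : γ' ∈ (P : Subgroup SL) := by
    rw [← hc, Sylow.coe_subgroup_smul]
    exact Subgroup.mem_map_of_mem _ (hP' (Subgroup.mem_zpowers γ))
  have hord : orderOf γ' = 3 :=
    (orderOf_injective (MulAut.conj c).toMonoidHom (MulAut.conj c).injective γ).trans hγ
  haveI : IsCyclic ↥(P : Subgroup SL) :=
    SuzukiAbelian.isCyclic_of_isPGroup (by norm_num) _ P.isPGroup'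
  set a : ↥(P : Subgroup SL) := ⟨γ', hmem⟩
  set b : ↥(P : Subgroup SL) := ⟨g, hP (Subgroup.mem_zpowers g)⟩
  have ha : orderOf a = 3 := by rw [← Subgroup.orderOf_coe]; exact hord
  have hb : orderOf b = 3 := by rw [← Subgroup.orderOf_coe]; exact hg
  have hab : Subgroup.zpowers a = Subgroup.zpowers b :=
    cyclic_subgroup_unique (by rw [Nat.card_zpowers, Nat.card_zpowers, ha, hb])
  obtain ⟨i, hi⟩ := Subgroup.mem_zpowers_iff.1 (hab.ge (Subgroup.mem_zpowers b))
  rw [← zpow_mod_orderOf, ha] at hi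
  have hi' : γ' ^ (i % 3) = g := by simpa [a, b] using congrArg Subtype.val hi
  refine ⟨c, ?_⟩
  rcases (show i % 3 = 0 ∨ i % 3 = 1 ∨ i % 3 = 2 by omega) with h | h | h
  · exfalso
    rw [h, zpow_zero] at hi'
    rw [← hi', orderOf_one] at hg
    omega
  · left; rw [← hi', h, zpow_one]
  · right
    rw [← hi', h, show (2 : ℤ) = 1 + 1 from rfl, _root_.zpow_add, zpow_one, hγ']
    group

/-- One element of order three without fixed points gives all of `Fpf3`. -/
theorem fpf3_of_element [Finite F] [CharP F 2] {A : Type*} [AddCommGroup A]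
    {ρ : SL →* AddMonoid.End A} {g : SL} (hg : orderOf g = 3) (h : ∀ v, ρ g v = v → v = 0) :
    Fpf3 ρ := by
  intro t ht w
  set γ := up t * lo t⁻¹ with hγ
  haveI : Fact (Nat.Prime 3) := ⟨Nat.prime_three⟩
  have hord : orderOf γ = 3 :=
    orderOf_eq_prime (by rw [pow_succ', sq]; exact gamma_cube ht) (gamma_ne_one ht)
  rw [← gamma_sq ht]
  have hfix : ∀ v, ρ γ v = v → v = 0 := by
    intro v hv
    obtain ⟨c, hc⟩ := exists_conj_of_orderOf_three g γ hg hord
    have h' : ρ g (ρ c v) = ρ c v := by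
      rcases hc with hc | hc <;> rw [← hc, map_mul_apply, map_mul_apply, map_inv_apply]
      · rw [hv]
      · rw [map_mul_apply, hv, hv]
    rw [← map_inv_apply ρ c v, h _ h', map_zero]
  refine hfix _ ?_
  rw [map_add, map_add, ← map_mul_apply, ← map_mul_apply, gamma_cube ht, map_one]
  show ρ (γ * γ) w + w + ρ γ w = _
  abel

/-- Conjugation on a normal subgroup `V` centralized by `Q`, read through `G ⧸ Q ≅ SL₂(F)`. -/
def secEnd {G : Type u} [Group G] (Q V : Subgroup G) [Q.Normal] [V.Normal]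
    (hQV : Q ≤ Subgroup.centralizer (V : Set G)) (e : G ⧸ Q ≃* SL) :
    SL →* AddMonoid.End (Additive ↥V) :=
  (QuotientGroup.lift Q ((conjEnd ⊤ V (by rw [Subgroup.normalizer_eq_top])).comp
    Subgroup.topEquiv.symm.toMonoidHom) fun q hq => by
      refine MonoidHom.mem_ker.2 (AddMonoidHom.ext fun v => Additive.toMul.injective (Subtype.ext ?_))
      show q * ((Additive.toMul v : ↥V) : G) * q⁻¹ = ((Additive.toMul v : ↥V) : G)
      rw [← Subgroup.mem_centralizer_iff.1 (hQV hq) _ (Additive.toMul v).2, mul_inv_cancel_right]).comp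
    e.symm.toMonoidHom

theorem secEnd_apply {G : Type u} [Group G] (Q V : Subgroup G) [Q.Normal] [V.Normal]
    (hQV : Q ≤ Subgroup.centralizer (V : Set G)) (e : G ⧸ Q ≃* SL) (g : G) (v : Additive ↥V) :
    ((Additive.toMul (secEnd Q V hQV e (e g) v) : ↥V) : G) =
      g * (Additive.toMul v : ↥V) * g⁻¹ := by
  simp only [secEnd, MonoidHom.comp_apply, MulEquiv.coe_toMonoidHom, e.symm_apply_apply,
    QuotientGroup.lift_mk]
  rfl

theorem not_mem_of_orderOf_three {G : Type u} [Group G] {Q : Subgroup G} (hQ : IsPGroup 2 ↥Q) {x : G}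
    (hx : orderOf x = 3) : x ∉ Q := by
  intro h
  obtain ⟨k, hk⟩ := hQ ⟨x, h⟩
  have : orderOf x ∣ 2 ^ k := orderOf_dvd_of_pow_eq_one (by simpa using congrArg Subtype.val hk)
  rw [hx] at this
  have h3 := Nat.prime_three.dvd_of_dvd_pow this
  norm_num at h3

theorem orderOf_image {G : Type u} [Group G] {Q : Subgroup G} [Q.Normal] (hQ : IsPGroup 2 ↥Q)
    (e : G ⧸ Q ≃* SL) {x : G} (hx : orderOf x = 3) : orderOf (e (x : G ⧸ Q)) = 3 := by
  haveI : Fact (Nat.Prime 3) := ⟨Nat.prime_three⟩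
  refine orderOf_eq_prime ?_ ?_
  · rw [← map_pow, ← QuotientGroup.mk_pow, ← hx, pow_orderOf_eq_one, QuotientGroup.mk_one, map_one]
  · rw [← map_one e, ne_eq, e.injective.eq_iff, QuotientGroup.eq_one_iff]
    exact not_mem_of_orderOf_three hQ hx

theorem secEnd_fix {G : Type u} [Group G] (Q V : Subgroup G) [Q.Normal] [V.Normal]
    (hQV : Q ≤ Subgroup.centralizer (V : Set G)) (e : G ⧸ Q ≃* SL) {x : G}
    (hfpf : ∀ q ∈ V, x * q * x⁻¹ = q → q = 1) (v : Additive ↥V)
    (hv : secEnd Q V hQV e (e x) v = v) : Additive.toMul v = 1 := by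
  have h1 := secEnd_apply Q V hQV e x v
  rw [hv] at h1
  exact Subtype.ext (hfpf _ (Additive.toMul v).2 h1.symm)

end Cfsg.Agent.Lib.SL2Module
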