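import Cfsg.Agent.Lib.SL2Module.ThreeFpf

/-!
Consequences of fixed-point-free elements of order three for `SL₂(2ⁿ)`, `n ≥ 2`: alternating
equivariant pairings vanish and there is no homocyclic module of exponent four.
-/

set_option autoImplicit false

namespace Cfsg.Agent.Lib.SL2Module

open Matrix
open Cfsg.Agent.Lib.PLocal.SLTwo (up lo up_add lo_add up_zero lo_zero val_mul)

variable {F : Type*} [Field F] [Finite F] [CharP F 2]

/-- The torus element `weyl s * weyl 1` acts on `C(U)` as `phi s`. -/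
theorem torus_eq {C : Type*} [AddCommGroup C] {τ : SpecialLinearGroup (Fin 2) F →* AddMonoid.End C}
    (k2 : ∀ v : C, v + v = 0) (k3 : Fpf3 τ) {s : F} (hs0 : s ≠ 0) {c : C} (hc : c ∈ fixU τ) :
    τ (weyl s * weyl 1) c = phi τ s c := by
  rw [map_mul_apply, (k3.weyl_fixU_eq k2 one_ne_zero hc).2, inv_one,
    (k3.weyl_fixL_eq k2 hs0 (k3.nL_fixU_mem k2 1 hc)).2.1]; rfl

/-- Equivariant alternating pairings between such modules vanish. -/
theorem pairing_eq_zero {A B : Type*} [AddCommGroup A] [AddCommGroup B] [Finite A] [Finite B]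
    {ρ : SpecialLinearGroup (Fin 2) F →* AddMonoid.End A}
    {σ : SpecialLinearGroup (Fin 2) F →* AddMonoid.End B}
    (h2 : ∀ v : A, v + v = 0) (h3 : Fpf3 ρ) (h2' : ∀ v : B, v + v = 0) (h3' : Fpf3 σ)
    {s : F} (hs0 : s ≠ 0) (hs1 : s ≠ 1)
    (β : A →+ A →+ B) (halt : ∀ v, β v v = 0) (heq : ∀ g u v, β (ρ g u) (ρ g v) = σ g (β u v))
    (u v : A) : β u v = 0 := by
  have hq := h3.quad h2
  have hsp := h3.split h2
  have hq' := h3'.quad h2'
  have hsp' := h3'.split h2'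
  have hanti : ∀ u v, β u v = β v u := by
    intro u v
    have := halt (u + v)
    simp only [map_add, AddMonoidHom.add_apply, halt, zero_add, add_zero] at this
    rw [← neg_eq_of_two h2' (β v u)]
    exact (eq_neg_of_add_eq_zero_left (by rwa [add_comm] at this))
  have hfix : ∀ a ∈ fixU ρ, ∀ b ∈ fixU ρ, β a b ∈ fixU σ := fun a ha b hb => (mem_fixU σ).2 fun t => by
    show σ (up t) (β a b) - β a b = 0
    rw [← heq, map_up_fix ρ ha, map_up_fix ρ hb, sub_self]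
  have hN : ∀ t, ∀ a ∈ fixU ρ, ∀ b ∈ fixU ρ, nU σ t (β a (nL ρ 1 b)) = β a (phi ρ t b) := by
    intro t a ha b _
    show σ (up t) _ - _ = _
    rw [← heq, map_up_fix ρ ha, map_up, map_add]
    exact add_sub_cancel_left _ _
  have hsB : ∀ a ∈ fixU ρ, ∀ b ∈ fixU ρ, ∀ t, β a (phi ρ t b) = phi σ t (β a b) := by
    intro a ha b hb t
    have h1 := hN 1 a ha b hb
    rw [hq.phi_one hsp hb] at h1
    rw [← hN t a ha b hb]
    obtain ⟨x, hx, y, hy, hxy⟩ := AddSubgroup.mem_sup.1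
      ((h3'.sup_eq_top h2').ge (AddSubgroup.mem_top (β a (nL ρ 1 b))))
    rw [← hxy, map_add, (mem_fixU σ).1 hx, zero_add] at h1
    rw [← hxy, map_add, (mem_fixU σ).1 hx, zero_add, ← h1]
    show nU σ t y = nU σ t (nL σ 1 (nU σ 1 y))
    have := (hq'.weyl_apply_fixL hsp' one_ne_zero hy).1
    rw [inv_one] at this
    rw [this]
  have hzero : ∀ a ∈ fixU ρ, ∀ b ∈ fixU ρ, β a b = 0 := by
    intro a ha b hb
    have hc := hfix a ha b hb
    have h1 := heq (weyl s * weyl 1) a b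
    rw [torus_eq h2 h3 hs0 ha, torus_eq h2 h3 hs0 hb, torus_eq h2' h3' hs0 hc, hsB _ (hq.phi_mem _ _) b hb, hanti _ b,
      hsB b hb a ha, hanti b a] at h1
    set c := β a b
    have h4 := congrArg (phi σ s⁻¹) h1
    rw [← hq'.phi_mul hsp' s⁻¹ s (hq'.phi_mem _ _), ← hq'.phi_mul hsp' s⁻¹ s hc,
      inv_mul_cancel₀ hs0, hq'.phi_one hsp' (hq'.phi_mem _ _), hq'.phi_one hsp' hc] at h4
    have h5 : phi σ (s + 1) c = 0 := by
      rw [hq'.phi_add, hq'.phi_one hsp' hc, h4, h2']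
    have hs2 : s + 1 ≠ 0 := fun h => hs1 (by rw [← CharTwo.neg_eq (1 : F)]; exact eq_neg_of_add_eq_zero_left h)
    have h6 := hq'.phi_mul hsp' (s + 1)⁻¹ (s + 1) hc
    rw [inv_mul_cancel₀ hs2, hq'.phi_one hsp' hc, h5] at h6
    rw [h6]; simp [phi]
  have hmix : ∀ a ∈ fixU ρ, ∀ b ∈ fixU ρ, β a (nL ρ 1 b) ∈ fixU σ := fun a ha b hb =>
    (mem_fixU σ).2 fun t => by rw [hN t a ha b hb, hzero a ha _ (hq.phi_mem _ _)]
  have hw : ∀ a ∈ fixU ρ, ∀ b ∈ fixL ρ, β a b = 0 := by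
    intro a ha b hb
    obtain ⟨b', hb', rfl⟩ : ∃ b' ∈ fixU ρ, nL ρ 1 b' = b := ⟨nU ρ 1 b, hq.nU_mem _ _, by
      simpa using (hq.weyl_apply_fixL hsp one_ne_zero hb).1⟩
    have hL := weyl_fixU σ one_ne_zero (hmix b' hb' a ha)
    rw [← heq, (h3.weyl_fixU_eq h2 one_ne_zero hb').2, inv_one,
      (h3.weyl_fixL_eq h2 one_ne_zero (h3.nL_fixU_mem h2 1 ha)).2.1,
      show nU ρ 1 (nL ρ 1 a) = phi ρ 1 a from rfl, hq.phi_one hsp ha, hanti] at hL
    exact hsp' _ (hmix a ha b' hb') hL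
  obtain ⟨a, ha, b, hb, rfl⟩ := AddSubgroup.mem_sup.1 ((h3.sup_eq_top h2).ge (AddSubgroup.mem_top u))
  obtain ⟨a', ha', b', hb', rfl⟩ := AddSubgroup.mem_sup.1 ((h3.sup_eq_top h2).ge (AddSubgroup.mem_top v))
  have hLL : β b b' = 0 := by
    obtain ⟨x, hx, rfl⟩ : ∃ x ∈ fixU ρ, ρ (weyl (1 : F)) x = b := ⟨ρ (weyl 1)⁻¹ b, by
      rw [weyl_inv one_ne_zero]; exact weyl_fixL ρ (neg_ne_zero.2 one_ne_zero) hb, map_apply_inv ρ _ _⟩
    obtain ⟨y, hy, rfl⟩ : ∃ y ∈ fixU ρ, ρ (weyl (1 : F)) y = b' := ⟨ρ (weyl 1)⁻¹ b', by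
      rw [weyl_inv one_ne_zero]; exact weyl_fixL ρ (neg_ne_zero.2 one_ne_zero) hb', map_apply_inv ρ _ _⟩
    rw [heq, hzero x hx y hy, map_zero]
  simp only [map_add, AddMonoidHom.add_apply, hzero a ha a' ha', hw a ha b' hb',
    hanti b a', hw a' ha' b hb, hLL, add_zero]

/-- There is no homocyclic module of exponent four with fixed-point-free element of order three. -/
theorem eq_zero_of_homocyclic {A : Type*} [AddCommGroup A] [Finite A] [Fintype F]
    {ρ : SpecialLinearGroup (Fin 2) F →* AddMonoid.End A} (h3 : Fpf3 ρ)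
    (h4 : ∀ v : A, (v + v) + (v + v) = 0) (hdiv : ∀ v : A, v + v = 0 → ∃ w, v = w + w)
    {s : F} (hs0 : s ≠ 0) (hs1 : s ≠ 1) (v : A) : v = 0 := by
  classical
  let S : AddSubgroup A := (2 • AddMonoidHom.id A).range
  have hS : ∀ v, v ∈ S ↔ ∃ w, v = w + w := fun v => by
    simp only [S, AddMonoidHom.mem_range, AddMonoidHom.smul_apply, AddMonoidHom.id_apply, two_nsmul]
    exact ⟨fun ⟨w, h⟩ => ⟨w, h.symm⟩, fun ⟨w, h⟩ => ⟨w, h.symm⟩⟩
  have hdd : ∀ u : A, u + u = 0 → u ∈ S := fun u h => (hS u).2 (hdiv u h)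
  have hSinv : ∀ g, ∀ v ∈ S, ρ g v ∈ S := by
    intro g v hv
    obtain ⟨w, rfl⟩ := (hS v).1 hv
    exact (hS _).2 ⟨ρ g w, map_add _ _ _⟩
  let σ : SpecialLinearGroup (Fin 2) F →* AddMonoid.End (A ⧸ S) :=
    { toFun := fun g => QuotientAddGroup.map S S (ρ g) (fun v hv => hSinv g v hv)
      map_one' := AddMonoidHom.ext fun x => by
        induction x using QuotientAddGroup.induction_on with
        | H v => show ((ρ 1 v : A) : A ⧸ S) = _; rw [map_one]; rfl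
      map_mul' := fun g h => AddMonoidHom.ext fun x => by
        induction x using QuotientAddGroup.induction_on with
        | H v => show ((ρ (g * h) v : A) : A ⧸ S) = ((ρ g (ρ h v) : A) : A ⧸ S); rw [map_mul_apply] }
  have hσ : ∀ g (v : A), σ g (v : A ⧸ S) = ((ρ g v : A) : A ⧸ S) := fun g v => rfl
  have hσN : ∀ t (v : A), nU σ t (v : A ⧸ S) = ((nU ρ t v : A) : A ⧸ S) := fun t v => rfl
  have hσM : ∀ t (v : A), nL σ t (v : A ⧸ S) = ((nL ρ t v : A) : A ⧸ S) := fun t v => rfl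
  have h2 : ∀ v : A ⧸ S, v + v = 0 := by
    intro v
    induction v using QuotientAddGroup.induction_on with
    | H v => rw [← QuotientAddGroup.mk_add, QuotientAddGroup.eq_zero_iff]; exact (hS _).2 ⟨v, rfl⟩
  have h3' : Fpf3 σ := by
    intro t ht v
    induction v using QuotientAddGroup.induction_on with
    | H v =>
      rw [hσ, hσ, ← QuotientAddGroup.mk_add, ← QuotientAddGroup.mk_add, h3 t ht v,
        QuotientAddGroup.mk_zero]
  have hq := h3'.quad h2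
  have hsp := h3'.split h2
  have hinj : ∀ {u w : A}, u + u = w + w → (u : A ⧸ S) = (w : A ⧸ S) := by
    intro u w h
    rw [QuotientAddGroup.eq_iff_sub_mem]
    exact hdd _ (by rw [show u - w + (u - w) = (u + u) - (w + w) by abel, h, sub_self])
  have hker : ∀ x : A ⧸ S, nL σ 1 x = 0 → x ∈ fixL σ := by
    intro x hx
    obtain ⟨a, ha, b, hb, rfl⟩ := AddSubgroup.mem_sup.1 ((h3'.sup_eq_top h2).ge (AddSubgroup.mem_top x))
    rw [map_add, (mem_fixL σ).1 hb, add_zero] at hx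
    have := (hq.weyl_apply_fixU hsp one_ne_zero ha).1
    rw [inv_one, hx, map_zero] at this
    rw [← this, zero_add]; exact hb
  have hMM : ∀ v : A, nL ρ 1 (nL ρ 1 v) = -(nL ρ 1 v + nL ρ 1 v) := by
    intro v
    show ρ (lo 1) (ρ (lo 1) v - v) - (ρ (lo 1) v - v) = -((ρ (lo 1) v - v) + (ρ (lo 1) v - v))
    rw [map_sub, ← map_mul_apply, ← lo_add, CharTwo.add_self_eq_zero, lo_zero, map_one]
    show v - ρ (lo 1) v - (ρ (lo 1) v - v) = _
    abel
  have hMcomm : ∀ (r : F) v, nL ρ 1 (nL ρ r v) = nL ρ r (nL ρ 1 v) := by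
    intro r v
    show ρ (lo 1) (ρ (lo r) v - v) - (ρ (lo r) v - v) = ρ (lo r) (ρ (lo 1) v - v) - (ρ (lo 1) v - v)
    rw [map_sub, map_sub, ← map_mul_apply, ← map_mul_apply, ← lo_add, ← lo_add, add_comm 1 r]
    abel
  -- the linear map `P`
  have hrel : ∀ x ∈ fixL σ, ∃ g r : A, (g : A ⧸ S) = x ∧ nL ρ 1 g = 0 ∧
      nL ρ s⁻¹ g = r + r ∧ (r : A ⧸ S) ∈ fixL σ := by
    intro x hx
    obtain ⟨h, hh⟩ := QuotientAddGroup.mk_surjective (nU σ 1 x)
    refine ⟨nL ρ 1 h + (h + h), ?_⟩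
    have hcls : ((nL ρ 1 h + (h + h) : A) : A ⧸ S) = x := by
      rw [QuotientAddGroup.mk_add, ← hσM, hh, (QuotientAddGroup.eq_zero_iff _).2 ((hS _).2 ⟨h, rfl⟩),
        add_zero]
      simpa using (hq.weyl_apply_fixL hsp one_ne_zero hx).1
    have hM0 : nL ρ 1 (nL ρ 1 h + (h + h)) = 0 := by
      rw [map_add, hMM, map_add]; abel
    have hmem : nL ρ s⁻¹ (nL ρ 1 h + (h + h)) ∈ S := by
      rw [← QuotientAddGroup.eq_zero_iff, ← hσM, hcls]
      exact (mem_fixL σ).1 hx _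
    obtain ⟨r, hr⟩ := (hS _).1 hmem
    refine ⟨r, hcls, hM0, hr, hker _ ?_⟩
    rw [hσM, QuotientAddGroup.eq_zero_iff]
    exact hdd _ (by rw [← map_add, ← hr, hMcomm, hM0, map_zero])
  choose! G R hG hM0 hR hRfix using hrel
  let P : A ⧸ S → A ⧸ S := fun x => (R x : A ⧸ S)
  have hwd : ∀ g r : A, nL ρ 1 g = 0 → nL ρ s⁻¹ g = r + r → (g : A ⧸ S) ∈ fixL σ →
      (r : A ⧸ S) = P (g : A ⧸ S) := by
    intro g r hg hr hx
    have hdiff : g - G (g : A ⧸ S) ∈ S := by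
      rw [← QuotientAddGroup.eq_iff_sub_mem, hG _ hx]
    obtain ⟨w, hw⟩ := (hS _).1 hdiff
    have hwL : (w : A ⧸ S) ∈ fixL σ := hker _ (by
      rw [hσM, QuotientAddGroup.eq_zero_iff]
      exact hdd _ (by rw [← map_add, ← hw, map_sub, hg, hM0 _ hx, sub_zero]))
    have h0 : nL ρ s⁻¹ (g - G (g : A ⧸ S)) = 0 := by
      rw [hw, map_add]
      obtain ⟨z, hz⟩ := (hS (nL ρ s⁻¹ w)).1 (by
        rw [← QuotientAddGroup.eq_zero_iff, ← hσM]; exact (mem_fixL σ).1 hwL _)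
      rw [hz]; exact h4 z
    rw [map_sub, sub_eq_zero] at h0
    exact hinj (by rw [← hr, h0, hR _ hx])
  let Ψ : A ⧸ S → A ⧸ S := fun x => nL σ 1 (nU σ s x)
  have hΨmem : ∀ x, Ψ x ∈ fixL σ := fun x => hq.nL_mem _ _
  have hmain : ∀ x ∈ fixL σ, Ψ x + Ψ (P x) + P (Ψ x) + x = 0 := by
    intro x hx
    have hg := hM0 x hx
    have hr := hR x hx
    set g := G x
    set r := R x
    obtain ⟨k, hk⟩ : ∃ k, k = nU ρ s g := ⟨_, rfl⟩
    have he := h3 s hs0 g
    rw [map_mul_apply, map_mul_apply, map_lo ρ s⁻¹ g, hr, map_up, map_up, map_add (nU ρ s),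
      map_add (nU ρ s) r r, map_lo, map_add (nL ρ s⁻¹), hr, ← hk] at he
    have h5 := congrArg (nL ρ 1) he
    simp only [map_add, map_zero, hg, hMcomm s⁻¹ k, add_zero, zero_add] at h5
    set g' := nL ρ 1 k + (k + k) with hg'
    have hg'0 : nL ρ 1 g' = 0 := by rw [hg', map_add, hMM, map_add]; abel
    have hg'cls : (g' : A ⧸ S) = Ψ x := by
      rw [hg', QuotientAddGroup.mk_add, (QuotientAddGroup.eq_zero_iff _).2 ((hS _).2 ⟨k, rfl⟩),
        add_zero, ← hσM, hk, ← hσN, hG x hx]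
    obtain ⟨r', hr'⟩ := (hS (nL ρ s⁻¹ g')).1 (by
      rw [← QuotientAddGroup.eq_zero_iff, ← hσM, hg'cls]
      exact (mem_fixL σ).1 (hΨmem _) _)
    have hPΨ : P (Ψ x) = (r' : A ⧸ S) := by
      rw [← hg'cls]; exact (hwd g' r' hg'0 hr' (hg'cls ▸ hΨmem _)).symm
    have h6 : nL ρ s⁻¹ (nL ρ 1 k) = r' + r' - (nL ρ s⁻¹ k + nL ρ s⁻¹ k) := by
      rw [← hr', hg', map_add, map_add]; abel
    rw [h6] at h5
    have h7 : (nL ρ 1 k + nL ρ 1 (nU ρ s r) + r' + nL ρ s⁻¹ k + nL ρ 1 r) +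
        (nL ρ 1 k + nL ρ 1 (nU ρ s r) + r' + nL ρ s⁻¹ k + nL ρ 1 r) = 0 := by
      have hsub : -(nL ρ s⁻¹ k + nL ρ s⁻¹ k) = nL ρ s⁻¹ k + nL ρ s⁻¹ k :=
        neg_eq_of_add_eq_zero_left (h4 _)
      have hMr : nL ρ 1 r + nL ρ 1 r = 0 := by rw [← map_add, ← hr, hMcomm, hg, map_zero]
      rw [sub_eq_add_neg, hsub] at h5
      rw [hMr] at h5
      calc _ = (nL ρ 1 k + nL ρ 1 k) + (nL ρ 1 (nU ρ s r) + nL ρ 1 (nU ρ s r)) + (r' + r') +
            (nL ρ s⁻¹ k + nL ρ s⁻¹ k) + (nL ρ 1 r + nL ρ 1 r) := by abel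
        _ = 0 := by
          rw [hMr, add_zero, ← h5]
          abel
    have h8 : ((nL ρ 1 k + nL ρ 1 (nU ρ s r) + r' + nL ρ s⁻¹ k + nL ρ 1 r : A) : A ⧸ S) = 0 :=
      (QuotientAddGroup.eq_zero_iff _).2 (hdd _ h7)
    simp only [QuotientAddGroup.mk_add, ← hσM, ← hσN, hk, g, r, hG x hx] at h8
    rw [(mem_fixL σ).1 (hRfix x hx) 1, add_zero, (hq.weyl_apply_fixL hsp hs0 hx).1, ← hPΨ] at h8
    exact h8
  have hPmem : ∀ x ∈ fixL σ, P x ∈ fixL σ := fun x hx => hRfix x hx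
  have hΨadd : ∀ x y, Ψ (x + y) = Ψ x + Ψ y := fun x y => by simp only [Ψ, map_add]
  have hcom2 : ∀ x ∈ fixL σ, P (Ψ (Ψ x)) = Ψ (Ψ (P x)) := by
    intro x hx
    have e1 : P (Ψ x) = Ψ x + Ψ (P x) + x := by
      rw [← neg_eq_of_two h2 (Ψ x + Ψ (P x) + x)]
      refine eq_neg_of_add_eq_zero_left ?_
      rw [← hmain x hx]; abel
    have e2 : P (Ψ (Ψ x)) = Ψ (Ψ x) + Ψ (P (Ψ x)) + Ψ x := by
      rw [← neg_eq_of_two h2 (Ψ (Ψ x) + Ψ (P (Ψ x)) + Ψ x)]
      refine eq_neg_of_add_eq_zero_left ?_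
      rw [← hmain (Ψ x) (hΨmem x)]; abel
    rw [e2, e1, hΨadd, hΨadd,
      show Ψ (Ψ x) + (Ψ (Ψ x) + Ψ (Ψ (P x)) + Ψ x) + Ψ x =
        Ψ (Ψ (P x)) + (Ψ (Ψ x) + Ψ (Ψ x)) + (Ψ x + Ψ x) by abel, h2, h2, add_zero, add_zero]
  have hiter : ∀ (m : ℕ), ∀ x ∈ fixL σ, Ψ^[m] x = nL σ 1 (phi σ (s ^ m) (nU σ 1 x)) := by
    intro m
    induction m with
    | zero =>
      intro x hx
      rw [Function.iterate_zero_apply, pow_zero, hq.phi_one hsp (hq.nU_mem _ _)]
      simpa using ((hq.weyl_apply_fixL hsp one_ne_zero hx).1).symm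
    | succ m ih =>
      intro x hx
      rw [Function.iterate_succ_apply', ih x hx]
      show nL σ 1 (nU σ s (nL σ 1 _)) = _
      rw [pow_succ', hq.phi_mul hsp _ _ (hq.nU_mem _ _)]; rfl
  obtain ⟨m, hm⟩ : ∃ m, Fintype.card F = 2 * m := by
    obtain ⟨k, -, hk⟩ := FiniteField.card F 2
    exact ⟨2 ^ ((k : ℕ) - 1), by rw [← pow_succ', Nat.sub_add_cancel k.pos, hk]⟩
  have hfixall : ∀ x ∈ fixL σ, x = 0 := by
    intro x hx
    have hper : ∀ y ∈ fixL σ, Ψ^[2 * m] y = Ψ y := by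
      intro y hy
      conv_rhs => rw [← Function.iterate_one Ψ]
      rw [hiter _ y hy, hiter 1 y hy, pow_one, ← hm, FiniteField.pow_card]
    have hc : ∀ i, ∀ y ∈ fixL σ, P (Ψ^[2 * i] y) = Ψ^[2 * i] (P y) := by
      intro i
      induction i with
      | zero => intro y _; rfl
      | succ i ih =>
        intro y hy
        rw [show 2 * (i + 1) = 2 * i + 1 + 1 by ring, Function.iterate_succ_apply,
          Function.iterate_succ_apply, ih _ (hΨmem _), hcom2 y hy, Function.iterate_succ_apply,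
          Function.iterate_succ_apply]
    have h9 : P (Ψ x) = Ψ (P x) := by rw [← hper x hx, hc m x hx, hper _ (hPmem x hx)]
    have h10 := hmain x hx
    rw [h9, show Ψ x + Ψ (P x) + Ψ (P x) + x = Ψ x + x + (Ψ (P x) + Ψ (P x)) by abel, h2, add_zero]
      at h10
    have h11 := congrArg (nU σ 1) h10
    have h12 : nU σ 1 (Ψ x) = nU σ s x := by
      simpa [Ψ] using (hq.weyl_apply_fixU hsp one_ne_zero (hq.nU_mem s x)).1
    rw [map_add, map_zero, h12, ← hq.nU_add] at h11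
    have hs2 : s + 1 ≠ 0 := fun h => hs1 (by
      rw [← CharTwo.neg_eq (1 : F)]; exact eq_neg_of_add_eq_zero_left h)
    have := (hq.weyl_apply_fixL hsp hs2 hx).1
    rw [h11, map_zero] at this
    exact this.symm
  have hzero : ∀ u : A, u ∈ S := by
    intro u
    rw [← QuotientAddGroup.eq_zero_iff]
    obtain ⟨a, ha, b, hb, hab⟩ := AddSubgroup.mem_sup.1
      ((h3'.sup_eq_top h2).ge (AddSubgroup.mem_top (u : A ⧸ S)))
    have h' := weyl_fixU σ one_ne_zero ha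
    have h'' := congrArg (σ (weyl (1 : F))⁻¹) (hfixall _ h')
    rw [map_inv_apply, map_zero] at h''
    rw [← hab, hfixall b hb, h'', add_zero]
  obtain ⟨w, rfl⟩ := (hS v).1 (hzero v)
  obtain ⟨z, rfl⟩ := (hS w).1 (hzero w)
  exact h4 z

/-- A quadratic module with `C(U) + C(L)` everything is a direct sum of natural submodules. -/
theorem exists_decomposition {A : Type*} [AddCommGroup A] [Finite A]
    {ρ : SpecialLinearGroup (Fin 2) F →* AddMonoid.End A} (hq : Quad ρ) (hs : Split ρ)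
    (htop : fixU ρ ⊔ fixL ρ = ⊤) :
    ∃ (k : ℕ) (V : Fin k → AddSubgroup A),
      (∀ i, (∀ g, ∀ v ∈ V i, ρ g v ∈ V i) ∧ ∃ f : (Fin 2 → F) →+ A, Function.Injective f ∧
        f.range = V i ∧ ∀ (g : SpecialLinearGroup (Fin 2) F) x, ρ g (f x) = f (g.1 *ᵥ x)) ∧
      iSupIndep V ∧ ⨆ i, V i = ⊤ := by
  suffices h : ∀ N : ℕ, ∀ W : AddSubgroup A, Nat.card W ≤ N → (∀ g, ∀ v ∈ W, ρ g v ∈ W) →
      ∃ (k : ℕ) (V : Fin k → AddSubgroup A),
        (∀ i, (∀ g, ∀ v ∈ V i, ρ g v ∈ V i) ∧ ∃ f : (Fin 2 → F) →+ A, Function.Injective f ∧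
          f.range = V i ∧ ∀ (g : SpecialLinearGroup (Fin 2) F) x, ρ g (f x) = f (g.1 *ᵥ x)) ∧
        iSupIndep V ∧ ⨆ i, V i = W from
    h _ ⊤ le_rfl fun g v _ => AddSubgroup.mem_top _
  intro N
  induction N with
  | zero => intro W hW; exact absurd hW (not_le.2 Nat.card_pos)
  | succ N ih =>
    intro W hW hinv
    by_cases hbot : W = ⊥
    · exact ⟨0, Fin.elim0, fun i => i.elim0, fun i => i.elim0, by rw [hbot]; simp⟩
    obtain ⟨a, ha, haW, ha0⟩ : ∃ a ∈ fixU ρ, a ∈ W ∧ a ≠ 0 := by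
      obtain ⟨v, hv, hv0⟩ : ∃ v ∈ W, v ≠ 0 := by
        by_contra h
        push Not at h
        exact hbot (eq_bot_iff.2 fun v hv => AddSubgroup.mem_bot.2 (h v hv))
      by_cases hall : ∀ t, nU ρ t v = 0
      · exact ⟨v, (mem_fixU ρ).2 hall, hv, hv0⟩
      · push Not at hall
        obtain ⟨t, ht⟩ := hall
        exact ⟨nU ρ t v, hq.nU_mem _ _, sub_mem (hinv _ v hv) hv, ht⟩
    obtain ⟨f, hfinj, hfe, hf⟩ := hq.exists_embedding hs ha ha0
    have hLinv : ∀ g, ∀ v ∈ f.range, ρ g v ∈ f.range := by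
      rintro g _ ⟨x, rfl⟩; exact ⟨_, (hf g x).symm⟩
    have hLW : f.range ≤ W := by
      rcases range_le_or_disjoint f hf W hinv with h | h
      · exact h
      · exfalso
        apply ha0
        have hm : a ∈ f.range ⊓ W := ⟨⟨_, hfe⟩, haW⟩
        rwa [h, AddSubgroup.mem_bot] at hm
    obtain ⟨C, hC, hCK, hCtop⟩ := hq.exists_complement hs htop f.range hLinv
    have hlt : Nat.card (W ⊓ C : AddSubgroup A) ≤ N := by
      have hne : W ⊓ C ≠ W := fun h => ha0 (by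
        have hm : a ∈ C ⊓ f.range := ⟨(inf_eq_left.1 h) haW, ⟨_, hfe⟩⟩
        rwa [hCK, AddSubgroup.mem_bot] at hm)
      have hlt : Nat.card (W ⊓ C : AddSubgroup A) < Nat.card W := by
        have hss : ((W ⊓ C : AddSubgroup A) : Set A) ⊂ (W : Set A) :=
          SetLike.coe_ssubset_coe.2 (lt_of_le_of_ne inf_le_left hne)
        have := Set.ncard_lt_ncard hss (Set.toFinite _)
        rwa [← Nat.card_coe_set_eq, ← Nat.card_coe_set_eq] at this
      omega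
    obtain ⟨k, V, hV, hind, hsup⟩ := ih _ hlt fun g v hv => ⟨hinv g v hv.1, hC g v hv.2⟩
    refine ⟨k + 1, Fin.cons f.range V, ?_, ?_, ?_⟩
    · intro i
      refine Fin.cases ?_ ?_ i
      · simp only [Fin.cons_zero]; exact ⟨hLinv, f, hfinj, rfl, hf⟩
      · intro j; simp only [Fin.cons_succ]; exact hV j
    · have hle : ∀ j, V j ≤ C := fun j => (le_iSup V j).trans (hsup.le.trans inf_le_right)
      intro i
      rw [disjoint_iff, eq_bot_iff]
      refine Fin.cases ?_ ?_ i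
      · simp only [Fin.cons_zero]
        refine le_trans (inf_le_inf_left _ (iSup₂_le fun j hj => ?_)) (by rw [inf_comm, hCK])
        obtain ⟨j', rfl⟩ := Fin.exists_succ_eq.2 hj
        simpa using hle j'
      · intro j
        simp only [Fin.cons_succ]
        rintro v ⟨hv, hv'⟩
        have hsub : (⨆ l, ⨆ (_ : l ≠ j.succ), (Fin.cons f.range V : Fin (k + 1) → AddSubgroup A) l) ≤
            f.range ⊔ ⨆ l, ⨆ (_ : l ≠ j), V l := by
          refine iSup₂_le fun l hl => ?_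
          induction l using Fin.cases with
          | zero => simp
          | succ l =>
            simp only [Fin.cons_succ]
            exact le_sup_of_le_right (le_iSup₂_of_le l (fun h => hl (h ▸ rfl)) le_rfl)
        obtain ⟨x, hx, y, hy, rfl⟩ := AddSubgroup.mem_sup.1 (hsub hv')
        have hyC : y ∈ C := (iSup₂_le fun l _ => hle l : (⨆ l, ⨆ (_ : l ≠ j), V l) ≤ C) hy
        have hx0 : x ∈ C ⊓ f.range := ⟨by simpa using sub_mem (hle j hv) hyC, hx⟩
        rw [hCK, AddSubgroup.mem_bot] at hx0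
        rw [hx0, zero_add] at hv ⊢
        exact (disjoint_iff.1 (hind j)).le ⟨hv, hy⟩
    · refine le_antisymm (iSup_le fun i => ?_) fun v hv => ?_
      · refine Fin.cases ?_ ?_ i
        · simpa using hLW
        · intro j; simpa using ((le_iSup V j).trans (hsup.le.trans inf_le_left))
      · obtain ⟨c, hc, l, hl, rfl⟩ := AddSubgroup.mem_sup.1 (hCtop.ge (AddSubgroup.mem_top v))
        have hcW : c ∈ W ⊓ C := ⟨by simpa using sub_mem hv (hLW hl), hc⟩
        rw [← hsup] at hcW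
        refine add_mem ((iSup_le fun j => ?_ : ⨆ j, V j ≤ _) hcW) ?_
        · exact le_iSup_of_le j.succ (by simp)
        · exact AddSubgroup.mem_iSup_of_mem 0 (by simpa using hl)

end Cfsg.Agent.Lib.SL2Module
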