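import Cfsg.Agent.Lib.SL2Module.ExtensionFpf

/-!
G. Higman: if `G / Q ≅ SL₂(2ⁿ)`, `n ≥ 2`, `Q` a `2`-group and an element of order three centralizes
no nontrivial element of `Q`, then `Q` is elementary abelian.
-/

set_option autoImplicit false

namespace Cfsg.Agent.Lib.SL2Module

open Matrix
open scoped commutatorElement

universe u v

variable {F : Type v} [Field F]

local notation "SL" => Matrix.SpecialLinearGroup (Fin 2) F

/-- Restriction of an action to an invariant subgroup. -/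
def subEnd {A : Type*} [AddCommGroup A] (ρ : SL →* AddMonoid.End A) (C : AddSubgroup A)
    (hC : ∀ g, ∀ v ∈ C, ρ g v ∈ C) : SL →* AddMonoid.End ↥C where
  toFun g := ((ρ g : A →+ A).comp C.subtype).codRestrict C fun v => hC g v v.2
  map_one' := AddMonoidHom.ext fun v => Subtype.ext (by
    show ρ 1 (v : A) = (v : A)
    rw [map_one]; rfl)
  map_mul' g h := AddMonoidHom.ext fun v => Subtype.ext (by
    show ρ (g * h) (v : A) = ρ g (ρ h (v : A))
    rw [map_mul_apply])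

/-- The action on a quotient by an invariant subgroup. -/
def quotEnd {A : Type*} [AddCommGroup A] (ρ : SL →* AddMonoid.End A) (S : AddSubgroup A)
    (hS : ∀ g, ∀ v ∈ S, ρ g v ∈ S) : SL →* AddMonoid.End (A ⧸ S) where
  toFun g := QuotientAddGroup.map S S (ρ g) fun v hv => hS g v hv
  map_one' := AddMonoidHom.ext fun x => by
    induction x using QuotientAddGroup.induction_on with
    | H v => show ((ρ 1 v : A) : A ⧸ S) = _; rw [map_one]; rfl
  map_mul' g h := AddMonoidHom.ext fun x => by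
    induction x using QuotientAddGroup.induction_on with
    | H v => show ((ρ (g * h) v : A) : A ⧸ S) = ((ρ g (ρ h v) : A) : A ⧸ S); rw [map_mul_apply]

/-- No element of order four in a module of exponent four with `Fpf3`. -/
theorem exponent_two [Fintype F] [CharP F 2] {A : Type*} [AddCommGroup A] [Finite A]
    {ρ : SL →* AddMonoid.End A} (h3 : Fpf3 ρ) (h4 : ∀ v : A, (v + v) + (v + v) = 0) {s : F}
    (hs0 : s ≠ 0) (hs1 : s ≠ 1) (v : A) : v + v = 0 := by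
  let S : AddSubgroup A :=
    { carrier := {v | ∃ w, v = w + w}
      zero_mem' := ⟨0, (add_zero 0).symm⟩
      add_mem' := fun {a b} ⟨x, hx⟩ ⟨y, hy⟩ => ⟨x + y, by rw [hx, hy]; abel⟩
      neg_mem' := fun {a} ⟨x, hx⟩ => ⟨-x, by rw [hx]; abel⟩ }
  have hS : ∀ g, ∀ v ∈ S, ρ g v ∈ S := fun g v ⟨w, hw⟩ => ⟨ρ g w, by rw [hw, map_add]⟩
  let σ := quotEnd ρ S hS
  have h2 : ∀ x : A ⧸ S, x + x = 0 := by
    intro x
    induction x using QuotientAddGroup.induction_on with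
    | H a => rw [← QuotientAddGroup.mk_add, QuotientAddGroup.eq_zero_iff]; exact ⟨a, rfl⟩
  have h3' : Fpf3 σ := by
    intro t ht x
    induction x using QuotientAddGroup.induction_on with
    | H a =>
      show ((ρ _ a : A) : A ⧸ S) + ((ρ _ a : A) : A ⧸ S) + (a : A ⧸ S) = 0
      rw [← QuotientAddGroup.mk_add, ← QuotientAddGroup.mk_add, h3 t ht a, QuotientAddGroup.mk_zero]
  let T : AddSubgroup A :=
    { carrier := {v | v + v = 0}
      zero_mem' := add_zero 0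
      add_mem' := fun {a b} (ha : a + a = 0) (hb : b + b = 0) => show a + b + (a + b) = 0 by
        rw [add_add_add_comm, ha, hb, add_zero]
      neg_mem' := fun {a} (ha : a + a = 0) => show -a + -a = 0 by
        rw [← neg_add, ha, neg_zero] }
  obtain ⟨C, hC, hCK, hCtop⟩ := (h3'.quad h2).exists_complement (h3'.split h2) (h3'.sup_eq_top h2)
    (T.map (QuotientAddGroup.mk' S)) (by
      rintro g _ ⟨a, ha, rfl⟩
      exact ⟨ρ g a, show ρ g a + ρ g a = 0 by rw [← map_add, ha, map_zero], rfl⟩)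
  let C' := C.comap (QuotientAddGroup.mk' S)
  have hC' : ∀ g, ∀ a ∈ C', ρ g a ∈ C' := fun g a ha => hC g _ ha
  have hzero : ∀ c : ↥C', c = 0 := by
    refine fun c => eq_zero_of_homocyclic (ρ := subEnd ρ C' hC') ?_ ?_ ?_ hs0 hs1 c
    · exact fun t ht c => Subtype.ext (h3 t ht c)
    · exact fun c => Subtype.ext (h4 c)
    · intro c hc
      have hc' : (c : A) + c = 0 := congrArg Subtype.val hc
      obtain ⟨w, hw⟩ : (c : A) ∈ S := by
        rw [← QuotientAddGroup.eq_zero_iff]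
        have hm : ((c : A) : A ⧸ S) ∈ C ⊓ T.map (QuotientAddGroup.mk' S) :=
          ⟨c.2, (c : A), hc', rfl⟩
        rwa [hCK, AddSubgroup.mem_bot] at hm
      obtain ⟨d, hd, k, ⟨k₀, hk₀, rfl⟩, hdk⟩ := AddSubgroup.mem_sup.1
        (hCtop.ge (AddSubgroup.mem_top ((w : A ⧸ S))))
      have hwC : w - k₀ ∈ C' := by
        show ((w - k₀ : A) : A ⧸ S) ∈ C
        rw [QuotientAddGroup.mk_sub, ← hdk]
        simpa using hd
      refine ⟨⟨w - k₀, hwC⟩, Subtype.ext ?_⟩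
      show (c : A) = w - k₀ + (w - k₀)
      rw [hw, show w - k₀ + (w - k₀) = w + w - (k₀ + k₀) by abel,
        show k₀ + k₀ = 0 from hk₀, sub_zero]
  have hvv : v + v ∈ C' := by
    show ((v + v : A) : A ⧸ S) ∈ C
    rw [(QuotientAddGroup.eq_zero_iff (N := S) (v + v)).2 ⟨v, rfl⟩]
    exact zero_mem _
  exact congrArg Subtype.val (hzero ⟨v + v, hvv⟩)

/-- Commutators modulo a subgroup centralized by `Q` are well defined. -/
theorem commutator_eq_of_central {G : Type*} [Group G] {Q V : Subgroup G}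
    (hV : ∀ v ∈ V, ∀ r ∈ Q, r * v = v * r) (hVQ : V ≤ Q) {q r q' r' : G} (hq : q ∈ Q) (hr : r ∈ Q)
    (h1 : q⁻¹ * q' ∈ V) (h2 : r⁻¹ * r' ∈ V) : ⁅q', r'⁆ = ⁅q, r⁆ := by
  obtain ⟨v, hv, rfl⟩ : ∃ v ∈ V, q' = q * v := ⟨_, h1, by group⟩
  obtain ⟨w, hw, rfl⟩ : ∃ w ∈ V, r' = r * w := ⟨_, h2, by group⟩
  rw [commutatorElement_def, commutatorElement_def]
  calc q * v * (r * w) * (q * v)⁻¹ * (r * w)⁻¹
      = q * (v * (r * w)) * v⁻¹ * q⁻¹ * w⁻¹ * r⁻¹ := by group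
    _ = q * ((r * w) * v) * v⁻¹ * q⁻¹ * w⁻¹ * r⁻¹ := by
        rw [hV v hv (r * w) (Q.mul_mem hr (hVQ hw))]
    _ = q * r * (w * q⁻¹) * w⁻¹ * r⁻¹ := by group
    _ = q * r * (q⁻¹ * w) * w⁻¹ * r⁻¹ := by rw [hV w hw q⁻¹ (Q.inv_mem hq)]
    _ = q * r * q⁻¹ * r⁻¹ := by group

theorem elementary_kernel [Fintype F] [CharP F 2] {s : F} (hs0 : s ≠ 0) (hs1 : s ≠ 1) :
    ∀ (N : ℕ) {G : Type u} [Group G] [Finite G] (Q : Subgroup G) [Q.Normal], Nat.card Q ≤ N →
      IsPGroup 2 ↥Q → (G ⧸ Q ≃* SL) → ∀ x : G, orderOf x = 3 →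
      (∀ q ∈ Q, x * q * x⁻¹ = q → q = 1) →
      (∀ q ∈ Q, ∀ r ∈ Q, q * r = r * q) ∧ ∀ q ∈ Q, q * q = 1 := by
  intro N
  induction N with
  | zero => intro G _ _ Q _ hQ; exact absurd hQ (not_le.2 Nat.card_pos)
  | succ N ih =>
  intro G _ _ Q _ hcard hQ e x hx hfpf
  classical
  haveI : Fact (Nat.Prime 3) := ⟨Nat.prime_three⟩
  by_cases hbot : Q = ⊥
  · refine ⟨fun q hq r hr => ?_, fun q hq => ?_⟩
    · rw [hbot, Subgroup.mem_bot] at hq hr; rw [hq, hr]
    · rw [hbot, Subgroup.mem_bot] at hq; rw [hq, one_mul]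
  let V₀ : Subgroup G :=
    { carrier := {q | q ∈ Q ∧ (∀ r ∈ Q, r * q = q * r) ∧ q * q = 1}
      one_mem' := ⟨one_mem _, fun r _ => by rw [mul_one, one_mul], one_mul 1⟩
      mul_mem' := fun {a b} ⟨ha, ha', ha2⟩ ⟨hb, hb', hb2⟩ =>
        ⟨Q.mul_mem ha hb, fun r hr => by rw [← mul_assoc, ha' r hr, mul_assoc, hb' r hr, mul_assoc],
          by rw [mul_assoc, ← mul_assoc b, ← hb' a ha, mul_assoc a b, hb2, mul_one, ha2]⟩
      inv_mem' := fun {a} ⟨ha, ha', ha2⟩ => by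
        have : a⁻¹ = a := inv_eq_of_mul_eq_one_right ha2
        rw [Set.mem_ofPred, this]; exact ⟨ha, ha', ha2⟩ }
  have hV₀Q : V₀ ≤ Q := fun q hq => hq.1
  have hVc : ∀ v ∈ V₀, ∀ r ∈ Q, r * v = v * r := fun v hv => hv.2.1
  haveI hV₀n : V₀.Normal := ⟨fun q hq g => by
    refine ⟨Subgroup.Normal.conj_mem inferInstance q hq.1 g, fun r hr => ?_, ?_⟩
    · have hr' : g⁻¹ * r * g ∈ Q := by
        have := Subgroup.Normal.conj_mem (H := Q) inferInstance r hr g⁻¹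
        rwa [inv_inv] at this
      calc r * (g * q * g⁻¹) = g * ((g⁻¹ * r * g) * q) * g⁻¹ := by group
        _ = g * (q * (g⁻¹ * r * g)) * g⁻¹ := by rw [hq.2.1 _ hr']
        _ = g * q * g⁻¹ * r := by group
    · calc g * q * g⁻¹ * (g * q * g⁻¹) = g * (q * q) * g⁻¹ := by group
        _ = 1 := by rw [hq.2.2, mul_one, mul_inv_cancel]⟩
  -- `V₀` is nontrivial
  obtain ⟨z, hzV, hz1⟩ : ∃ z ∈ V₀, z ≠ 1 := by
    haveI : Nontrivial ↥Q := (Subgroup.nontrivial_iff_ne_bot _).2 hbot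
    haveI : Fact (Nat.Prime 2) := ⟨Nat.prime_two⟩
    haveI := hQ.center_nontrivial
    obtain ⟨z, hz⟩ := exists_ne (1 : Subgroup.center ↥Q)
    obtain ⟨k, hk⟩ := (hQ.to_subgroup (Subgroup.center ↥Q)) z
    obtain ⟨m, hm⟩ : ∃ m, z ^ 2 ^ m ≠ 1 ∧ z ^ 2 ^ (m + 1) = 1 := by
      by_contra h
      push Not at h
      have : ∀ m, z ^ 2 ^ m ≠ 1 := by
        intro m
        induction m with
        | zero => rwa [pow_zero, pow_one]
        | succ m ihm => exact h m ihm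
      exact this k hk
    refine ⟨(((z ^ 2 ^ m : Subgroup.center ↥Q) : ↥Q) : G), ⟨((z ^ 2 ^ m : Subgroup.center ↥Q) : ↥Q).2,
      fun r hr => ?_, ?_⟩, fun h => hm.1 (Subtype.ext (Subtype.ext h))⟩
    · exact congrArg Subtype.val
        (Subgroup.mem_center_iff.1 (z ^ 2 ^ m : Subgroup.center ↥Q).2 ⟨r, hr⟩)
    · rw [← Subgroup.coe_mul, ← Subgroup.coe_mul, ← pow_two, ← pow_mul, ← pow_succ, hm.2]; rfl
  -- the quotient
  let π := QuotientGroup.mk' V₀
  let e' : (G ⧸ V₀) ⧸ Q.map π ≃* SL :=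
    (QuotientGroup.quotientQuotientEquivQuotient V₀ Q hV₀Q).trans e
  have hQ' : IsPGroup 2 ↥(Q.map π) := hQ.map π
  have hlt : Nat.card ↥(Q.map π) ≤ N := by
    have hsurj := MonoidHom.subgroupMap_surjective π Q
    have hle := Nat.card_le_card_of_surjective _ hsurj
    have hne : Nat.card ↥(Q.map π) ≠ Nat.card Q := fun h => by
      have hinj := ((Nat.bijective_iff_surjective_and_card _).2 ⟨hsurj, h.symm⟩).injective
      have := @hinj ⟨z, hzV.1⟩ 1 (Subtype.ext (by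
        show π z = π 1
        rw [map_one]; exact (QuotientGroup.eq_one_iff z).2 hzV))
      exact hz1 (congrArg Subtype.val this)
    omega
  have hx' : orderOf (π x) = 3 := by
    refine orderOf_eq_prime ?_ fun h => ?_
    · rw [← map_pow, ← hx, pow_orderOf_eq_one, map_one]
    · exact not_mem_of_orderOf_three hQ hx (hV₀Q ((QuotientGroup.eq_one_iff x).1 h))
  have hfpf' : ∀ q ∈ Q.map π, π x * q * (π x)⁻¹ = q → q = 1 := by
    rintro _ ⟨q, hq, rfl⟩ h
    rw [← map_inv, ← map_mul, ← map_mul, QuotientGroup.mk'_eq_mk'] at h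
    obtain ⟨w, hw, hw'⟩ := h
    let μ : ↥V₀ → ↥V₀ := fun v => ⟨(v : G)⁻¹ * (x * v * x⁻¹),
      V₀.mul_mem (V₀.inv_mem v.2) (hV₀n.conj_mem _ v.2 x)⟩
    have hμ : Function.Injective μ := by
      intro a b hab
      have hab' : (a : G)⁻¹ * (x * a * x⁻¹) = (b : G)⁻¹ * (x * b * x⁻¹) := congrArg Subtype.val hab
      have h1 : x * ((b : G) * (a : G)⁻¹) * x⁻¹ = (b : G) * (a : G)⁻¹ := by
        have h2 : x * (b : G) * x⁻¹ = (b : G) * ((a : G)⁻¹ * (x * a * x⁻¹)) := by rw [hab']; group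
        calc x * ((b : G) * (a : G)⁻¹) * x⁻¹ = (x * b * x⁻¹) * (x * a * x⁻¹)⁻¹ := by group
          _ = _ := by rw [h2]; group
      exact Subtype.ext (mul_inv_eq_one.1
        (hfpf _ (Q.mul_mem (hV₀Q b.2) (Q.inv_mem (hV₀Q a.2))) h1)).symm
    obtain ⟨v, hv⟩ := Finite.surjective_of_injective hμ ⟨w⁻¹, V₀.inv_mem hw⟩
    have hv' : (v : G)⁻¹ * (x * v * x⁻¹) = w⁻¹ := congrArg Subtype.val hv
    refine (QuotientGroup.eq_one_iff q).2 ?_
    have h1 : q * (v : G)⁻¹ = 1 := by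
      refine hfpf _ (Q.mul_mem hq (Q.inv_mem (hV₀Q v.2))) ?_
      have hxq : x * q * x⁻¹ = q * w⁻¹ := eq_mul_inv_of_mul_eq hw'
      calc x * (q * (v : G)⁻¹) * x⁻¹ = (x * q * x⁻¹) * (x * v * x⁻¹)⁻¹ := by group
        _ = q * w⁻¹ * ((v : G) * ((v : G)⁻¹ * (x * v * x⁻¹)))⁻¹ := by rw [hxq]; group
        _ = q * (v : G)⁻¹ := by
          rw [hv']; group
    rw [mul_inv_eq_one.1 h1]; exact v.2
  obtain ⟨hab', hsq'⟩ := ih (Q.map π) hlt hQ' e' (π x) hx' hfpf'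
  have hQQ : ∀ q ∈ Q, q * q ∈ V₀ := fun q hq => (QuotientGroup.eq_one_iff _).1
    ((map_mul π q q).trans (hsq' _ (Subgroup.mem_map_of_mem _ hq)))
  have hcomm : ∀ q ∈ Q, ∀ r ∈ Q, ⁅q, r⁆ ∈ V₀ := fun q hq r hr => (QuotientGroup.eq_one_iff _).1
    ((map_commutatorElement π q r).trans (commutatorElement_eq_one_iff_mul_comm.2
      (hab' _ (Subgroup.mem_map_of_mem _ hq) _ (Subgroup.mem_map_of_mem _ hr))))
  letI : CommGroup ↥(Q.map π) :=
    { (inferInstance : Group ↥(Q.map π)) with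
      mul_comm := fun a b => Subtype.ext (hab' _ a.2 _ b.2) }
  letI : CommGroup ↥V₀ :=
    { (inferInstance : Group ↥V₀) with
      mul_comm := fun a b => Subtype.ext (hVc _ b.2 _ (hV₀Q a.2)) }
  -- the commutator pairing
  let ρ : SL →* AddMonoid.End (Additive ↥(Q.map π)) :=
    secEnd (Q.map π) (Q.map π) (fun a ha => Subgroup.mem_centralizer_iff.2 fun b hb =>
      hab' b hb a ha) e'
  let σ : SL →* AddMonoid.End (Additive ↥V₀) :=
    secEnd Q V₀ (fun a ha => Subgroup.mem_centralizer_iff.2 fun b hb =>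
      (hVc b hb a ha).symm) e
  have h3 : Fpf3 ρ := fpf3_of_element (orderOf_image hQ' e' hx') fun v hv =>
    Additive.toMul.injective (secEnd_fix _ _ _ e' hfpf' v hv)
  have h3' : Fpf3 σ := fpf3_of_element (orderOf_image hQ e hx) fun v hv =>
    Additive.toMul.injective (secEnd_fix _ _ _ e (fun q hq => hfpf q (hV₀Q hq)) v hv)
  have hA2 : ∀ v : Additive ↥(Q.map π), v + v = 0 := fun v =>
    Additive.toMul.injective (Subtype.ext (hsq' _ (Additive.toMul v).2))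
  have hB2 : ∀ v : Additive ↥V₀, v + v = 0 := fun v =>
    Additive.toMul.injective (Subtype.ext (Additive.toMul v).2.2.2)
  have hlift : ∀ a : Additive ↥(Q.map π), ∃ q ∈ Q, π q = ((Additive.toMul a : ↥(Q.map π)) : G ⧸ V₀) :=
    fun a => Subgroup.mem_map.1 (Additive.toMul a).2
  choose L hLQ hLπ using hlift
  have hwd : ∀ a b, ∀ q ∈ Q, ∀ r ∈ Q, π q = ((Additive.toMul a : ↥(Q.map π)) : G ⧸ V₀) →
      π r = ((Additive.toMul b : ↥(Q.map π)) : G ⧸ V₀) → ⁅L a, L b⁆ = ⁅q, r⁆ :=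
    fun a b q hq r hr ha hb => commutator_eq_of_central hVc hV₀Q hq hr
      (QuotientGroup.eq.1 (ha.trans (hLπ a).symm)) (QuotientGroup.eq.1 (hb.trans (hLπ b).symm))
  let c : Additive ↥(Q.map π) → Additive ↥(Q.map π) → Additive ↥V₀ := fun a b =>
    Additive.ofMul ⟨⁅L a, L b⁆, hcomm _ (hLQ a) _ (hLQ b)⟩
  have hc1 : ∀ a a' b, c (a + a') b = c a b + c a' b := by
    intro a a' b
    apply Additive.toMul.injective
    apply Subtype.ext
    show ⁅L (a + a'), L b⁆ = ⁅L a, L b⁆ * ⁅L a', L b⁆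
    rw [hwd (a + a') b (L a * L a') (Q.mul_mem (hLQ a) (hLQ a')) (L b) (hLQ b)
      (by rw [map_mul, hLπ, hLπ]; rfl) (hLπ b)]
    have hx1 := hVc _ (hcomm _ (hLQ a') _ (hLQ b)) _ (hLQ a)
    have hx2 := hVc _ (hcomm _ (hLQ a') _ (hLQ b)) _ (Q.mul_mem (Q.mul_mem (hLQ b) (Q.inv_mem (hLQ a)))
      (Q.inv_mem (hLQ b)))
    calc ⁅L a * L a', L b⁆ = L a * ⁅L a', L b⁆ * (L b * (L a)⁻¹ * (L b)⁻¹) := by
          rw [commutatorElement_def, commutatorElement_def]; group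
      _ = L a * ((L b * (L a)⁻¹ * (L b)⁻¹) * ⁅L a', L b⁆) := by rw [mul_assoc, ← hx2]
      _ = ⁅L a, L b⁆ * ⁅L a', L b⁆ := by rw [commutatorElement_def (L a)]; group
  have hcalt : ∀ a, c a a = 0 := fun a =>
    Additive.toMul.injective (Subtype.ext (commutatorElement_eq_one_iff_mul_comm.2 rfl))
  have hcsymm : ∀ a b, c a b = c b a := by
    intro a b
    rw [← neg_eq_of_two hB2 (c b a)]
    apply Additive.toMul.injective
    apply Subtype.ext
    show ⁅L a, L b⁆ = ⁅L b, L a⁆⁻¹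
    rw [commutatorElement_inv]
  let β : Additive ↥(Q.map π) →+ Additive ↥(Q.map π) →+ Additive ↥V₀ :=
    AddMonoidHom.mk' (fun a => AddMonoidHom.mk' (c a) fun b b' => by
      rw [hcsymm, hc1, hcsymm a b, hcsymm a b'])
      fun a a' => AddMonoidHom.ext fun b => hc1 a a' b
  have heq : ∀ g a b, β (ρ g a) (ρ g b) = σ g (β a b) := by
    intro g a b
    obtain ⟨g₀, rfl⟩ : ∃ g₀ : G, e (g₀ : G ⧸ Q) = g := by
      obtain ⟨y, rfl⟩ := e.surjective g
      obtain ⟨g₀, rfl⟩ := QuotientGroup.mk_surjective y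
      exact ⟨g₀, rfl⟩
    have he' : e' ((π g₀ : G ⧸ V₀) : (G ⧸ V₀) ⧸ Q.map π) = e (g₀ : G ⧸ Q) := rfl
    apply Additive.toMul.injective
    apply Subtype.ext
    show ⁅L (ρ (e (g₀ : G ⧸ Q)) a), L (ρ (e (g₀ : G ⧸ Q)) b)⁆ = _
    have hconj : ∀ d, π (g₀ * L d * g₀⁻¹) =
        ((Additive.toMul (ρ (e (g₀ : G ⧸ Q)) d) : ↥(Q.map π)) : G ⧸ V₀) := by
      intro d
      rw [← he', secEnd_apply, map_mul, map_mul, map_inv, hLπ]
    have hmem : ∀ d, g₀ * L d * g₀⁻¹ ∈ Q := fun d =>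
      Subgroup.Normal.conj_mem inferInstance _ (hLQ d) g₀
    rw [hwd _ _ _ (hmem a) _ (hmem b) (hconj a) (hconj b), secEnd_apply]
    show ⁅g₀ * L a * g₀⁻¹, g₀ * L b * g₀⁻¹⁆ = g₀ * ⁅L a, L b⁆ * g₀⁻¹
    rw [commutatorElement_def, commutatorElement_def]; group
  have hab : ∀ q ∈ Q, ∀ r ∈ Q, q * r = r * q := by
    intro q hq r hr
    set a : Additive ↥(Q.map π) := Additive.ofMul ⟨π q, Subgroup.mem_map_of_mem _ hq⟩
    set b : Additive ↥(Q.map π) := Additive.ofMul ⟨π r, Subgroup.mem_map_of_mem _ hr⟩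
    have h := pairing_eq_zero hA2 h3 hB2 h3' hs0 hs1 β hcalt heq a b
    have h' : ⁅L a, L b⁆ = 1 :=
      congrArg (fun w : Additive ↥V₀ => ((Additive.toMul w : ↥V₀) : G)) h
    rw [hwd a b q hq r hr rfl rfl] at h'
    exact commutatorElement_eq_one_iff_mul_comm.1 h'
  refine ⟨hab, fun q hq => ?_⟩
  letI : CommGroup ↥Q :=
    { (inferInstance : Group ↥Q) with mul_comm := fun a b => Subtype.ext (hab _ a.2 _ b.2) }
  let τ : SL →* AddMonoid.End (Additive ↥Q) :=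
    secEnd Q Q (fun a ha => Subgroup.mem_centralizer_iff.2 fun b hb => hab b hb a ha) e
  have h3q : Fpf3 τ := fpf3_of_element (orderOf_image hQ e hx) fun v hv =>
    Additive.toMul.injective (secEnd_fix _ _ _ e hfpf v hv)
  have h := exponent_two h3q (fun v => Additive.toMul.injective (Subtype.ext
    (hQQ _ (Additive.toMul v).2).2.2)) hs0 hs1 (Additive.ofMul ⟨q, hq⟩)
  exact congrArg (fun w : Additive ↥Q => ((Additive.toMul w : ↥Q) : G)) h

end Cfsg.Agent.Lib.SL2Module
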