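import Cfsg.Agent.Lib.SL2Module.Conj
import Cfsg.Agent.Lib.Linear.SL2
import Cfsg.Agent.Lib.NumberTheory.Zsigmondy

/-!
Transvection-like elements of `SL₂(q)` have fixed-point subgroups of index at least `q` on every
faithful module in the defining characteristic.
-/

set_option autoImplicit false

namespace Cfsg.Agent.Lib.SL2Module

open Matrix
open Cfsg.Agent.Lib.PLocal.SLTwo (up lo val_mul)

theorem dvd_card_of_free {C α : Type*} [Group C] [MulAction C α] [Finite α]
    (h : ∀ a : α, MulAction.stabilizer C a = ⊥) : Nat.card C ∣ Nat.card α := by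
  classical
  have := Fintype.ofFinite (MulAction.orbitRel.Quotient C α)
  rw [Nat.card_congr (MulAction.selfEquivSigmaOrbits C α), Nat.card_sigma]
  refine Finset.dvd_sum fun ω _ => ?_
  rw [Nat.card_congr (MulAction.orbitEquivQuotientStabilizer C ω.out), h,
    Nat.card_congr (QuotientGroup.quotientBot (G := C)).toEquiv]

/-- If `y` induces an automorphism of order `r ^ (k + 1)` on the `p`-group `V` and the order of `p`
modulo `r ^ (k + 1)` is `d`, then the fixed points of `y ^ r ^ k` have index at least `p ^ d`. -/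
theorem pow_le_relIndex {X : Type*} [Group X] [Finite X] {p r k d : ℕ} [hp : Fact p.Prime]
    (hr : r.Prime) (hrp : r ≠ p) (V : Subgroup X) (hV : IsPGroup p ↥V)
    (hd : orderOf (p : ZMod (r ^ (k + 1))) = d) {y : X}
    (hy : y ∈ Subgroup.normalizer (V : Set X))
    (hy1 : y ^ r ^ (k + 1) ∈ Subgroup.centralizer (V : Set X))
    (hy2 : y ^ r ^ k ∉ Subgroup.centralizer (V : Set X)) (W : Subgroup X)
    (hW : W ≤ Subgroup.centralizer ({y} : Set X)) : p ^ d ≤ W.relIndex V := by
  classical
  set N := r ^ (k + 1) with hN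
  have hNpos : 0 < N := pow_pos hr.pos _
  set z := y ^ r ^ k with hz
  have hzy : Commute y z := Commute.self_pow y _
  have hzW : W ≤ Subgroup.centralizer ({z} : Set X) := fun w hw =>
    Subgroup.mem_centralizer_singleton_iff.2
      ((show Commute w y from Subgroup.mem_centralizer_singleton_iff.1 (hW hw)).pow_right _)
  set Fix := Subgroup.centralizer ({z} : Set X)
  let c : ↥(Subgroup.zpowers y) →* MulAut ↥V :=
    { toFun := fun g =>
        { toFun := fun v => ⟨(g : X) * v * (g : X)⁻¹,
            (Subgroup.mem_normalizer_iff.1 (Subgroup.zpowers_le.2 hy g.2) (v : X)).1 v.2⟩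
          invFun := fun v => ⟨(g : X)⁻¹ * v * (g : X), by
            have := (Subgroup.mem_normalizer_iff.1 (inv_mem (Subgroup.zpowers_le.2 hy g.2)) (v : X)).1 v.2
            simpa using this⟩
          left_inv := fun v => Subtype.ext (by simp [mul_assoc])
          right_inv := fun v => Subtype.ext (by simp [mul_assoc])
          map_mul' := fun v w => Subtype.ext (by simp [mul_assoc]) }
      map_one' := MulEquiv.ext fun v => Subtype.ext (by simp)
      map_mul' := fun g h => MulEquiv.ext fun v => Subtype.ext (by simp [mul_assoc]) }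
  have hc : ∀ (m : ℕ) (v : ↥V), (((c ⟨y, Subgroup.mem_zpowers y⟩) ^ m) v : X) = y ^ m * v * (y ^ m)⁻¹ := by
    intro m v
    rw [← map_pow]
    simp [c]
  set φ := c ⟨y, Subgroup.mem_zpowers y⟩ with hφ
  have hφN : φ ^ N = 1 := MulEquiv.ext fun v => Subtype.ext (by
    rw [hc, ← Subgroup.mem_centralizer_iff.1 hy1 v v.2, mul_inv_cancel_right]; rfl)
  have hφk : φ ^ r ^ k ≠ 1 := by
    intro h
    apply hy2
    refine Subgroup.mem_centralizer_iff.2 fun v hv => ?_
    have h' := congrArg (fun f : MulAut ↥V => (f ⟨v, hv⟩ : X)) h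
    simp only [hc, MulAut.one_apply] at h'
    exact (mul_inv_eq_iff_eq_mul.1 h').symm
  haveI : Fact r.Prime := ⟨hr⟩
  have hord : orderOf φ = N := orderOf_eq_prime_pow hφk hφN
  let M : SubMulAction (Subgroup.zpowers φ) ↥V :=
    { carrier := {v | (v : X) ∉ Fix}
      smul_mem' := by
        rintro ⟨g, hg⟩ v hv h
        apply hv
        obtain ⟨i, hi⟩ := Subgroup.mem_zpowers_iff.1 hg
        obtain ⟨j, hj⟩ : ∃ j : ℕ, φ ^ j = g := mem_powers_iff_mem_zpowers.2 hg
        have e : ((Subgroup.zpowers φ).subtype ⟨g, hg⟩ v : X) = y ^ j * v * (y ^ j)⁻¹ := by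
          rw [← hc j v, hj]; rfl
        change ((Subgroup.zpowers φ).subtype ⟨g, hg⟩ v : X) ∈ Fix at h
        rw [e, Subgroup.mem_centralizer_singleton_iff] at h
        rw [Subgroup.mem_centralizer_singleton_iff]
        have hjz : Commute (y ^ j) z := hzy.pow_left j
        apply mul_left_cancel (a := y ^ j)
        apply mul_right_cancel (b := (y ^ j)⁻¹)
        calc y ^ j * ((v : X) * z) * (y ^ j)⁻¹ = y ^ j * v * (y ^ j)⁻¹ * z := by
              rw [← mul_assoc, mul_assoc, mul_assoc (y ^ j * (v : X)) ((y ^ j)⁻¹) z,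
                hjz.inv_left.eq]
          _ = z * (y ^ j * v * (y ^ j)⁻¹) := h
          _ = y ^ j * (z * v) * (y ^ j)⁻¹ := by
              rw [← mul_assoc, ← mul_assoc, ← hjz.eq]; group }
  have hfree : ∀ a : M, MulAction.stabilizer (Subgroup.zpowers φ) a = ⊥ := by
    intro a
    rw [Subgroup.eq_bot_iff_forall]
    rintro ⟨g, hg⟩ hga
    by_contra hne
    have hfix : g a.1 = a.1 := congrArg Subtype.val (MulAction.mem_stabilizer_iff.1 hga)
    obtain ⟨j, hj⟩ : ∃ j : ℕ, φ ^ j = g := mem_powers_iff_mem_zpowers.2 hg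
    have hgcd : φ ^ r ^ k ∈ Subgroup.zpowers g := by
      have hdvd : Nat.gcd j N ∣ r ^ k := by
        obtain ⟨i, hi, hgi⟩ := (Nat.dvd_prime_pow hr).1 (Nat.gcd_dvd_right j N)
        rw [hgi]
        refine pow_dvd_pow r ?_
        by_contra hlt
        apply hne
        refine Subtype.ext ?_
        show g = 1
        rw [← hj, ← orderOf_dvd_iff_pow_eq_one, hord, hN, show k + 1 = i by omega, ← hgi]
        exact Nat.gcd_dvd_left j N
      obtain ⟨t, ht⟩ := hdvd
      have hb := Nat.gcd_eq_gcd_ab j N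
      refine Subgroup.mem_zpowers_iff.2 ⟨Nat.gcdA j N * t, ?_⟩
      have e : ((r ^ k : ℕ) : ℤ) = (j : ℤ) * (Nat.gcdA j N * t) + (N : ℤ) * (Nat.gcdB j N * t) := by
        rw [ht, Nat.cast_mul, hb]; ring
      rw [← zpow_natCast φ (r ^ k), e, _root_.zpow_add, _root_.zpow_mul φ, _root_.zpow_mul φ, _root_.zpow_natCast, _root_.zpow_natCast, hj,
        hφN, _root_.one_zpow, mul_one]
    have hz' : (φ ^ r ^ k) a.1 = a.1 := by
      have hle : Subgroup.zpowers g ≤ MulAction.stabilizer (MulAut ↥V) a.1 :=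
        Subgroup.zpowers_le.2 hfix
      exact hle hgcd
    refine a.2 (Subgroup.mem_centralizer_singleton_iff.2 ?_)
    have h' := congrArg Subtype.val hz'
    rw [hc] at h'
    exact (mul_inv_eq_iff_eq_mul.1 h').symm
  have hdvd : N ∣ Nat.card M := by
    have := dvd_card_of_free hfree
    rwa [Nat.card_zpowers, hord] at this
  obtain ⟨m, hm⟩ := hV.exists_card_eq
  obtain ⟨f, hfm, hf⟩ := (Nat.dvd_prime_pow hp.out).1 (hm ▸ (Fix.subgroupOf V).card_subgroup_dvd_card)
  have hcard : Nat.card M + p ^ f = p ^ m := by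
    rw [← hf, ← hm, add_comm, ← Nat.card_sum]
    exact Nat.card_congr (Equiv.sumCompl fun v : ↥V => (v : X) ∈ Fix)
  have hlt : f < m := by
    refine lt_of_le_of_ne hfm fun h => hy2 (Subgroup.mem_centralizer_iff.2 fun v hv => ?_)
    have htop : Fix.subgroupOf V = ⊤ := Subgroup.eq_top_of_card_eq _ (by rw [hf, h, hm])
    exact Subgroup.mem_centralizer_singleton_iff.1 (Subgroup.subgroupOf_eq_top.1 htop hv)
  have hone : ((p : ZMod N) ^ (m - f)) = 1 := by
    have hu : IsUnit (p : ZMod N) := (ZMod.isUnit_iff_coprime p N).2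
      (((Nat.coprime_primes hp.out hr).2 (Ne.symm hrp)).pow_right _)
    have h0 : ((p ^ m : ℕ) : ZMod N) = ((p ^ f : ℕ) : ZMod N) := by
      rw [← hcard, Nat.cast_add, (ZMod.natCast_eq_zero_iff _ _).2 hdvd, zero_add]
    push_cast at h0
    apply (hu.pow f).mul_left_cancel
    rw [← pow_add, Nat.add_sub_cancel' hlt.le, mul_one, h0]
  have hle : d ≤ m - f := Nat.le_of_dvd (by omega) (hd ▸ orderOf_dvd_of_pow_eq_one hone)
  refine le_trans ?_ (Subgroup.relIndex_le_of_le_left hzW ?_)
  · have h := (Fix.subgroupOf V).card_mul_index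
    rw [hf, hm] at h
    have : Fix.relIndex V = p ^ (m - f) := by
      rw [Subgroup.relIndex]
      apply Nat.eq_of_mul_eq_mul_left (pow_pos hp.out.pos f)
      rw [h, ← pow_add, Nat.add_sub_cancel' hlt.le]
    rw [this]
    exact Nat.pow_le_pow_right hp.out.pos hle
  · exact Subgroup.index_ne_zero_of_finite

/-- A nontrivial element `u = up t₀` and a conjugate multiply to an element whose order is a
multiple of any given odd divisor `N > 1` of `q + 1`. -/
theorem exists_product {F : Type*} [Field F] [Fintype F] {t₀ : F} (ht₀ : t₀ ≠ 0) {N : ℕ}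
    (hNodd : Odd N) (hN1 : 1 < N) (hN : N ∣ Fintype.card F + 1) :
    ∃ c : SpecialLinearGroup (Fin 2) F, N ∣ orderOf (up t₀ * (c * up t₀ * c⁻¹)) := by
  classical
  set K := AlgebraicClosure F
  have hq : 1 < Fintype.card F := Fintype.one_lt_card
  haveI : NeZero ((N : ℕ) : K) := by
    refine ⟨fun h => ?_⟩
    obtain ⟨d, hd⟩ := hN
    have h1 : ((Fintype.card F + 1 : ℕ) : K) = 0 := by rw [hd, Nat.cast_mul, h, zero_mul]
    have h2 : ((Fintype.card F : ℕ) : F) = 0 := by simp
    have h3 := congrArg (algebraMap F K) h2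
    rw [map_natCast, map_zero] at h3
    rw [Nat.cast_add, h3, zero_add, Nat.cast_one] at h1
    exact one_ne_zero h1
  obtain ⟨z, hz⟩ := HasEnoughRootsOfUnity.exists_primitiveRoot K N
  have hz0 : z ≠ 0 := hz.ne_zero (by omega)
  have hzq : z ^ Fintype.card F = z⁻¹ := eq_inv_of_mul_eq_one_left (by
    rw [← pow_succ]; exact hz.pow_eq_one_iff_dvd _ |>.2 hN)
  have hfix : (z + z⁻¹) ^ Fintype.card F = z + z⁻¹ := by
    have := map_add (FiniteField.frobeniusAlgHom F K) z z⁻¹
    simp only [FiniteField.coe_frobeniusAlgHom] at this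
    rw [this, inv_pow, hzq, inv_inv, add_comm]
  obtain ⟨w, hw⟩ : ∃ w : F, algebraMap F K w = z + z⁻¹ := by
    set q := Fintype.card F
    have hne : (Polynomial.X ^ q - Polynomial.X : Polynomial K) ≠ 0 :=
      FiniteField.X_pow_card_sub_X_ne_zero _ Fintype.one_lt_card
    have hsub : (Finset.univ.image (algebraMap F K)).val ⊆
        (Polynomial.X ^ q - Polynomial.X : Polynomial K).roots := by
      intro y hy
      rw [Finset.mem_val, Finset.mem_image] at hy
      obtain ⟨a, _, rfl⟩ := hy
      rw [Polynomial.mem_roots hne]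
      simp [← map_pow, FiniteField.pow_card, q]
    have hcard : (Polynomial.X ^ q - Polynomial.X : Polynomial K).roots.card ≤
        (Finset.univ.image (algebraMap F K)).card := by
      rw [Finset.card_image_of_injective _ (algebraMap F K).injective, Finset.card_univ]
      exact (Polynomial.card_roots' _).trans
        (FiniteField.X_pow_card_sub_X_natDegree_eq _ Fintype.one_lt_card).le
    have heq := Multiset.eq_of_le_of_card_le
      ((Multiset.le_iff_subset (Finset.nodup _)).mpr hsub) hcard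
    have hm : z + z⁻¹ ∈ (Polynomial.X ^ q - Polynomial.X : Polynomial K).roots := by
      rw [Polynomial.mem_roots hne]
      simp [hfix, q]
    rw [← heq, Finset.mem_val, Finset.mem_image] at hm
    obtain ⟨a, _, ha⟩ := hm
    exact ⟨a, ha⟩
  have hw0 : w ≠ 0 := by
    rintro rfl
    rw [map_zero] at hw
    have h2 : z ^ 2 = -1 := by
      have : z * (z + z⁻¹) = 0 := by rw [← hw, mul_zero]
      rw [mul_add, mul_inv_cancel₀ hz0] at this
      linear_combination this
    have h4 : z ^ 4 = 1 := by rw [show (4 : ℕ) = 2 * 2 from rfl, pow_mul, h2]; ring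
    have h4' : N ∣ 4 := hz.dvd_of_pow_eq_one 4 h4
    obtain ⟨j, hj⟩ := hNodd
    have := Nat.le_of_dvd (by norm_num) h4'
    have : N = 3 := by omega
    simp [this] at h4'
  set lam := w / t₀ with hlam
  have hlam0 : lam ≠ 0 := div_ne_zero hw0 ht₀
  refine ⟨weyl lam⁻¹, ?_⟩
  rw [weyl_mul_up (inv_ne_zero hlam0), mul_inv_cancel_right, inv_inv]
  set x := up t₀ * lo (-(t₀ * lam * lam)) with hx
  set μ : K := -(z ^ 2) with hμdef
  have hμsq : μ ^ 2 = z ^ 4 := by rw [hμdef]; ring
  have hμ2 : μ ^ 2 ≠ 1 := by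
    rw [hμsq]
    intro h
    have h4' : N ∣ 4 := hz.dvd_of_pow_eq_one 4 h
    obtain ⟨j, hj⟩ := hNodd
    have := Nat.le_of_dvd (by norm_num) h4'
    have : N = 3 := by omega
    simp [this] at h4'
  have heig : Linear.IsEigen x μ := by
    have htr : Matrix.trace (x : Matrix (Fin 2) (Fin 2) F) = 2 - w * w := by
      rw [hx, val_mul, Matrix.trace_fin_two, hlam]
      simp [up, lo, Matrix.mul_apply, Fin.sum_univ_two]
      field_simp
      ring
    unfold Linear.IsEigen
    rw [htr, map_sub, map_mul, hw, map_ofNat, hμdef]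
    linear_combination (-(2 * z ^ 2) - (z * z⁻¹ + 1)) * mul_inv_cancel₀ hz0
  rw [Linear.orderOf_eq_orderOf_eigen heig hμ2]
  refine dvd_trans ?_ (orderOf_pow_dvd (x := μ) 2)
  rw [hμsq, Nat.Coprime.orderOf_pow (by
    rw [← hz.eq_orderOf]
    exact (Nat.coprime_two_left.2 hNodd).symm.pow_right 2), ← hz.eq_orderOf]

end Cfsg.Agent.Lib.SL2Module
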