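import Cfsg.Agent.Lib.SL2Module.Natural

/-!
`SL₂(F)`, `F` of characteristic two, with an element of order three acting fixed-point-freely on a
module of exponent two: the upper root group acts quadratically (G. Higman).
-/

set_option autoImplicit false

namespace Cfsg.Agent.Lib.SL2Module

open Matrix
open Cfsg.Agent.Lib.PLocal.SLTwo (up lo up_add lo_add up_zero lo_zero val_mul)

variable {F : Type*} [Field F] {A : Type*} [AddCommGroup A]
variable {ρ : SpecialLinearGroup (Fin 2) F →* AddMonoid.End A}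

/-- The elements `up t * lo t⁻¹` of order three satisfy `g² + g + 1 = 0`. -/
def Fpf3 (ρ : SpecialLinearGroup (Fin 2) F →* AddMonoid.End A) : Prop :=
  ∀ t : F, t ≠ 0 → ∀ v, ρ (up t * lo t⁻¹) v + ρ (lo t⁻¹ * up t) v + v = 0

theorem neg_eq_of_two {A : Type*} [AddCommGroup A] (h2 : ∀ v : A, v + v = 0) (v : A) : -v = v :=
  neg_eq_of_add_eq_zero_left (h2 v)

theorem sub_eq_add_of_two {A : Type*} [AddCommGroup A] (h2 : ∀ v : A, v + v = 0) (u v : A) :
    u - v = u + v := by rw [sub_eq_add_neg, neg_eq_of_two h2]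

theorem nU_comm (ρ : SpecialLinearGroup (Fin 2) F →* AddMonoid.End A) (s t : F) (v : A) :
    nU ρ s (nU ρ t v) = nU ρ t (nU ρ s v) := by
  show ρ (up s) (ρ (up t) v - v) - (ρ (up t) v - v) = ρ (up t) (ρ (up s) v - v) - (ρ (up s) v - v)
  rw [map_sub, map_sub, ← map_mul_apply, ← map_mul_apply, ← up_add, ← up_add, add_comm s t]
  abel

theorem nU_add' (ρ : SpecialLinearGroup (Fin 2) F →* AddMonoid.End A) (s t : F) (v : A) :
    nU ρ (s + t) v = nU ρ s v + nU ρ t v + nU ρ s (nU ρ t v) := by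
  show ρ (up (s + t)) v - v = (ρ (up s) v - v) + (ρ (up t) v - v) +
    (ρ (up s) (ρ (up t) v - v) - (ρ (up t) v - v))
  rw [up_add, map_mul_apply, map_sub]
  abel

theorem weyl_mul_weyl_one [CharP F 2] {s : F} (hs : s ≠ 0) :
    weyl s * weyl 1 = weyl 1 * weyl s⁻¹ := by
  apply Subtype.ext
  simp only [weyl, val_mul]
  ext i j
  fin_cases i <;> fin_cases j <;>
    simp [up, lo, Matrix.mul_apply, Fin.sum_univ_two] <;>
    first | ring1 | (field_simp; ring1) | (field_simp; simp) | simp [hs]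

section Facts

variable [CharP F 2] (h2 : ∀ v : A, v + v = 0) (h3 : Fpf3 ρ)
include h2 h3

theorem Fpf3.anti {t : F} (ht : t ≠ 0) (v : A) :
    nU ρ t (nL ρ t⁻¹ v) + nL ρ t⁻¹ (nU ρ t v) = v := by
  have h := h3 t ht v
  simp only [map_mul_apply, map_up, map_lo, map_add] at h
  have e : v + nU ρ t v + (nL ρ t⁻¹ v + nU ρ t (nL ρ t⁻¹ v)) +
      (v + nL ρ t⁻¹ v + (nU ρ t v + nL ρ t⁻¹ (nU ρ t v))) + v =
      (nU ρ t (nL ρ t⁻¹ v) + nL ρ t⁻¹ (nU ρ t v)) + v + (v + v) +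
        (nL ρ t⁻¹ v + nL ρ t⁻¹ v) + (nU ρ t v + nU ρ t v) := by abel
  rw [e, h2, h2, h2, add_zero, add_zero, add_zero] at h
  rw [← neg_eq_of_two h2 v]
  exact eq_neg_of_add_eq_zero_left (by rw [neg_eq_of_two h2]; exact h)

theorem Fpf3.split : Split ρ := fun v hU hL => by
  have := h3.anti h2 one_ne_zero v
  rwa [(mem_fixU ρ).1 hU 1, (mem_fixL ρ).1 hL, map_zero, map_zero, add_zero, eq_comm] at this

theorem Fpf3.weyl_fixU_eq {t : F} (ht : t ≠ 0) {a : A} (ha : a ∈ fixU ρ) :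
    nU ρ t (nL ρ t⁻¹ a) = a ∧ ρ (weyl t) a = nL ρ t⁻¹ a := by
  have h1 : nU ρ t (nL ρ t⁻¹ a) = a := by
    have := h3.anti h2 ht a
    rwa [(mem_fixU ρ).1 ha t, map_zero, add_zero] at this
  refine ⟨h1, ?_⟩
  rw [weyl, map_mul_apply, map_mul_apply, map_up_fix ρ ha, CharTwo.neg_eq, map_lo, map_add,
    map_up_fix ρ ha, map_up, h1,
    show a + (nL ρ t⁻¹ a + a) = nL ρ t⁻¹ a + (a + a) by abel, h2, add_zero]

theorem Fpf3.weyl_fixL_eq {t : F} (ht : t ≠ 0) {b : A} (hb : b ∈ fixL ρ) :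
    nU ρ t b ∈ fixU ρ ∧ ρ (weyl t) b = nU ρ t b ∧ nL ρ t⁻¹ (nU ρ t b) = b := by
  set v := ρ (weyl t)⁻¹ b with hv
  have hvU : v ∈ fixU ρ := by
    rw [hv, weyl_inv ht]; exact weyl_fixL ρ (neg_ne_zero.2 ht) hb
  obtain ⟨h1, h1'⟩ := h3.weyl_fixU_eq h2 ht hvU
  have hb' : b = nL ρ t⁻¹ v := by rw [← h1', hv, map_apply_inv]
  have hN : nU ρ t b = v := by rw [hb', h1]
  refine ⟨hN ▸ hvU, ?_, by rw [hN, ← hb']⟩
  rw [weyl, map_mul_apply, map_mul_apply, CharTwo.neg_eq, map_up ρ t b, hN, map_lo, map_add (nL ρ _),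
    (mem_fixL ρ).1 hb, zero_add, ← hb', show b + v + b = v + (b + b) by abel, h2, add_zero,
    map_up_fix ρ hvU]

theorem Fpf3.nU_fixL_mem (t : F) {b : A} (hb : b ∈ fixL ρ) : nU ρ t b ∈ fixU ρ := by
  rcases eq_or_ne t 0 with rfl | ht
  · rw [nU_zero]; exact zero_mem _
  · exact (h3.weyl_fixL_eq h2 ht hb).1

theorem Fpf3.nL_fixU_mem (t : F) {a : A} (ha : a ∈ fixU ρ) : nL ρ t a ∈ fixL ρ := by
  rcases eq_or_ne t 0 with rfl | ht
  · rw [nL_zero]; exact zero_mem _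
  · have := (h3.weyl_fixU_eq h2 (inv_ne_zero ht) ha).2
    rw [inv_inv] at this
    exact this ▸ weyl_fixU ρ (inv_ne_zero ht) ha

theorem Fpf3.invariant (g : SpecialLinearGroup (Fin 2) F) {v : A} (hv : v ∈ fixU ρ ⊔ fixL ρ) :
    ρ g v ∈ fixU ρ ⊔ fixL ρ := by
  let K : Subgroup (SpecialLinearGroup (Fin 2) F) :=
    { carrier := {g | ∀ v, v ∈ fixU ρ ⊔ fixL ρ ↔ ρ g v ∈ fixU ρ ⊔ fixL ρ}
      one_mem' := fun v => by rw [map_one]; rfl
      mul_mem' := fun {a b} ha hb v => by rw [map_mul_apply]; exact (hb v).trans (ha _)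
      inv_mem' := fun {a} ha v => by
        conv_lhs => rw [← map_apply_inv ρ a v]
        exact (ha _).symm }
  have hu : ∀ t, ∀ v ∈ fixU ρ ⊔ fixL ρ, ρ (up t) v ∈ fixU ρ ⊔ fixL ρ := by
    intro t v hv
    obtain ⟨a, ha, b, hb, rfl⟩ := AddSubgroup.mem_sup.1 hv
    rw [map_add, map_up_fix ρ ha, map_up]
    exact add_mem (AddSubgroup.mem_sup_left ha)
      (add_mem (AddSubgroup.mem_sup_right hb) (AddSubgroup.mem_sup_left (h3.nU_fixL_mem h2 t hb)))
  have hl : ∀ t, ∀ v ∈ fixU ρ ⊔ fixL ρ, ρ (lo t) v ∈ fixU ρ ⊔ fixL ρ := by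
    intro t v hv
    obtain ⟨a, ha, b, hb, rfl⟩ := AddSubgroup.mem_sup.1 hv
    rw [map_add, map_lo_fix ρ hb, map_lo]
    exact add_mem (add_mem (AddSubgroup.mem_sup_left ha)
      (AddSubgroup.mem_sup_right (h3.nL_fixU_mem h2 t ha))) (AddSubgroup.mem_sup_right hb)
  have hK : (Set.range (up (F := F)) ∪ Set.range (lo (F := F))) ⊆ K := by
    rintro _ (⟨t, rfl⟩ | ⟨t, rfl⟩) v
    · refine ⟨hu t v, fun h => ?_⟩
      have := hu (-t) _ h
      rwa [← map_mul_apply, ← up_add, neg_add_cancel, up_zero, map_one] at this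
    · refine ⟨hl t v, fun h => ?_⟩
      have := hl (-t) _ h
      rwa [← map_mul_apply, ← lo_add, neg_add_cancel, lo_zero, map_one] at this
  exact ((Subgroup.closure_le K).2 hK
    (Cfsg.Agent.Lib.PLocal.SLTwo.closure_eq_top.ge (Subgroup.mem_top g)) v).1 hv

theorem Fpf3.phi_mem (t : F) {a : A} (ha : a ∈ fixU ρ) : phi ρ t a ∈ fixU ρ :=
  h3.nU_fixL_mem h2 t (h3.nL_fixU_mem h2 1 ha)

theorem Fpf3.phi_one {a : A} (ha : a ∈ fixU ρ) : phi ρ 1 a = a := by
  simpa [phi] using (h3.weyl_fixU_eq h2 one_ne_zero ha).1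

theorem Fpf3.phi_add (s t : F) {a : A} (ha : a ∈ fixU ρ) :
    phi ρ (s + t) a = phi ρ s a + phi ρ t a := by
  have : nU ρ s (nU ρ t (nL ρ 1 a)) = 0 := (mem_fixU ρ).1 (h3.phi_mem h2 t ha) s
  rw [phi, nU_add', this, add_zero]; rfl

theorem Fpf3.nL_eq_phi (s : F) {a : A} (ha : a ∈ fixU ρ) : nL ρ s a = nL ρ 1 (phi ρ s a) := by
  have h1 : ρ (weyl (1 : F)) (ρ (up s) (nL ρ 1 a)) = ρ (lo s) (ρ (weyl (1 : F)) (nL ρ 1 a)) := by
    rw [← map_mul_apply, ← map_mul_apply, weyl_mul_up one_ne_zero, inv_one, mul_one, mul_one,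
      CharTwo.neg_eq]
  have hw : ρ (weyl (1 : F)) (nL ρ 1 a) = a := by
    rw [(h3.weyl_fixL_eq h2 one_ne_zero (h3.nL_fixU_mem h2 1 ha)).2.1]
    simpa using (h3.weyl_fixU_eq h2 one_ne_zero ha).1
  rw [map_up, map_add, hw, show nU ρ s (nL ρ 1 a) = phi ρ s a from rfl,
    (h3.weyl_fixU_eq h2 one_ne_zero (h3.phi_mem h2 s ha)).2, inv_one, map_lo] at h1
  exact (add_left_cancel h1).symm

theorem Fpf3.phi_inv {t : F} (ht : t ≠ 0) {a : A} (ha : a ∈ fixU ρ) :
    phi ρ t (phi ρ t⁻¹ a) = a := by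
  show nU ρ t (nL ρ 1 (phi ρ t⁻¹ a)) = a
  rw [← h3.nL_eq_phi h2 t⁻¹ ha, (h3.weyl_fixU_eq h2 ht ha).1]

theorem Fpf3.phi_sq (t : F) {a : A} (ha : a ∈ fixU ρ) :
    phi ρ (t * t) a = phi ρ t (phi ρ t a) := by
  rcases eq_or_ne t 0 with rfl | ht
  · simp only [mul_zero, phi, nU_zero, map_zero]
  set b := nL ρ 1 a
  have hb : b ∈ fixL ρ := h3.nL_fixU_mem h2 1 ha
  have h1 : ρ (weyl t) (ρ (up (t * t)) b) = ρ (lo 1) (ρ (weyl t) b) := by
    rw [← map_mul_apply, ← map_mul_apply, weyl_mul_up ht, CharTwo.neg_eq,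
      show t * t * t⁻¹ * t⁻¹ = 1 by field_simp]
  have hp := h3.phi_mem h2 t ha
  rw [map_up, map_add, (h3.weyl_fixL_eq h2 ht hb).2.1,
    (h3.weyl_fixU_eq h2 ht (h3.nU_fixL_mem h2 (t * t) hb)).2, map_lo,
    h3.nL_eq_phi h2 t⁻¹ (h3.nU_fixL_mem h2 (t * t) hb)] at h1
  have h4 := congrArg (nU ρ 1) (add_left_cancel h1)
  have h5 : ∀ f ∈ fixU ρ, nU ρ 1 (nL ρ 1 f) = f := fun f hf => by
    simpa using (h3.weyl_fixU_eq h2 one_ne_zero hf).1
  rw [h5 _ (h3.phi_mem h2 _ (h3.nU_fixL_mem h2 (t * t) hb)), h5 _ (h3.nU_fixL_mem h2 t hb)] at h4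
  calc phi ρ (t * t) a = phi ρ t (phi ρ t⁻¹ (phi ρ (t * t) a)) :=
        (h3.phi_inv h2 ht (h3.nU_fixL_mem h2 (t * t) hb)).symm
    _ = phi ρ t (phi ρ t a) := congrArg (phi ρ t) h4

theorem Fpf3.mem_fixU_of_ker {v : A} (hv : v ∈ fixU ρ ⊔ fixL ρ) (h : nU ρ 1 v = 0) :
    v ∈ fixU ρ := by
  obtain ⟨a, ha, b, hb, rfl⟩ := AddSubgroup.mem_sup.1 hv
  rw [map_add, (mem_fixU ρ).1 ha, zero_add] at h
  have := h3.anti h2 one_ne_zero b
  rw [h, map_zero, (mem_fixL ρ).1 hb, map_zero, add_zero] at this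
  rw [← this, add_zero]; exact ha

/-- `G. Higman`: the fixed points of the two root groups span the module. -/
theorem Fpf3.sup_eq_top [Finite A] [Finite F] : fixU ρ ⊔ fixL ρ = ⊤ := by
  classical
  set X := fixU ρ ⊔ fixL ρ with hXdef
  by_contra hX
  -- the quotient module
  let σ : SpecialLinearGroup (Fin 2) F →* AddMonoid.End (A ⧸ X) :=
    { toFun := fun g => QuotientAddGroup.map X X (ρ g) (fun v hv => h3.invariant h2 g hv)
      map_one' := AddMonoidHom.ext fun x => by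
        induction x using QuotientAddGroup.induction_on with
        | H v => show ((ρ 1 v : A) : A ⧸ X) = _; rw [map_one]; rfl
      map_mul' := fun g h => AddMonoidHom.ext fun x => by
        induction x using QuotientAddGroup.induction_on with
        | H v => show ((ρ (g * h) v : A) : A ⧸ X) = ((ρ g (ρ h v) : A) : A ⧸ X); rw [map_mul_apply] }
  have hσ : ∀ g (v : A), σ g (v : A ⧸ X) = ((ρ g v : A) : A ⧸ X) := fun g v => rfl
  have hσN : ∀ t (v : A), nU σ t (v : A ⧸ X) = ((nU ρ t v : A) : A ⧸ X) := fun t v => rfl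
  have hσM : ∀ t (v : A), nL σ t (v : A ⧸ X) = ((nL ρ t v : A) : A ⧸ X) := fun t v => rfl
  have h2' : ∀ v : A ⧸ X, v + v = 0 := by
    intro v
    induction v using QuotientAddGroup.induction_on with
    | H v => rw [← QuotientAddGroup.mk_add, h2, QuotientAddGroup.mk_zero]
  have h3' : Fpf3 σ := by
    intro t ht v
    induction v using QuotientAddGroup.induction_on with
    | H v =>
      rw [hσ, hσ, ← QuotientAddGroup.mk_add, ← QuotientAddGroup.mk_add, h3 t ht v,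
        QuotientAddGroup.mk_zero]
  -- a nonzero fixed point of the upper root group
  obtain ⟨x, hx, hx0⟩ : ∃ x ∈ fixU σ, x ≠ 0 := by
    letI act : MulAction (Multiplicative F) (A ⧸ X) :=
      { smul := fun t => σ (up t.toAdd)
        one_smul := fun x => by show σ (up 0) x = x; rw [up_zero, map_one]; rfl
        mul_smul := fun s t x => by
          show σ (up (s.toAdd + t.toAdd)) x = σ (up s.toAdd) (σ (up t.toAdd) x)
          rw [up_add, map_mul_apply] }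
    haveI : Fact (Nat.Prime 2) := ⟨Nat.prime_two⟩
    have hp : IsPGroup 2 (Multiplicative F) := fun x => ⟨1, by
      rw [pow_one]; exact Multiplicative.toAdd.injective (by
        rw [toAdd_pow, toAdd_one, two_nsmul, CharTwo.add_self_eq_zero])⟩
    haveI : Nontrivial (A ⧸ X) := QuotientAddGroup.nontrivial_iff.2 hX
    have hdvd : 2 ∣ Nat.card (A ⧸ X) := by
      obtain ⟨y, hy⟩ := exists_ne (0 : A ⧸ X)
      have : addOrderOf y = 2 := addOrderOf_eq_prime (by rw [two_nsmul, h2']) hy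
      exact this ▸ addOrderOf_dvd_natCard y
    obtain ⟨x, hx, hx0⟩ := hp.exists_fixed_point_of_prime_dvd_card_of_fixed_point
      (A ⧸ X) hdvd (a := 0) (fun t => map_zero _)
    refine ⟨x, (mem_fixU σ).2 fun t => ?_, hx0.symm⟩
    have h := hx (Multiplicative.ofAdd t)
    show σ (up t) x - x = 0
    rw [show σ (up t) x = x from h, sub_self]
  obtain ⟨v, rfl⟩ := QuotientAddGroup.mk_surjective x
  -- `Z`: vectors killed by `nU 1` whose image is fixed
  let Z : A → Prop := fun z => nU ρ 1 z = 0 ∧ ((z : A ⧸ X)) ∈ fixU σ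
  have hNM : ∀ z, nU ρ 1 z = 0 → nU ρ 1 (nL ρ 1 z) = z := fun z hz => by
    have := h3.anti h2 one_ne_zero z
    rw [inv_one] at this
    rwa [hz, map_zero, add_zero] at this
  have ha : ∀ z, Z z → ∀ s, nU ρ s z ∈ fixU ρ := by
    intro z hz s
    refine h3.mem_fixU_of_ker h2 ?_ (by rw [nU_comm, hz.1, map_zero])
    have := (mem_fixU σ).1 hz.2 s
    rwa [hσN, QuotientAddGroup.eq_zero_iff] at this
  have hwd : ∀ z z', Z z → Z z' → (z : A ⧸ X) = (z' : A ⧸ X) → ∀ s, nU ρ s z = nU ρ s z' := by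
    intro z z' hz hz' hzz s
    rw [QuotientAddGroup.eq_iff_sub_mem] at hzz
    have hf := h3.mem_fixU_of_ker h2 hzz (by rw [map_sub, hz.1, hz'.1, sub_zero])
    have := (mem_fixU ρ).1 hf s
    rwa [map_sub, sub_eq_zero] at this
  have hw1 : ∀ z, nU ρ 1 z = 0 → ρ (weyl (1 : F)) z = nL ρ 1 z := by
    intro z hz
    rw [weyl, inv_one, CharTwo.neg_eq, map_mul_apply, map_mul_apply, map_up ρ 1 z, hz, add_zero,
      map_lo, map_add, map_up, hz, add_zero, map_up, hNM z hz,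
      show z + (nL ρ 1 z + z) = nL ρ 1 z + (z + z) by abel, h2, add_zero]
  have hw1' : ∀ z, nU ρ 1 z = 0 → ρ (weyl (1 : F)) (nL ρ 1 z) = z := by
    intro z hz
    conv_rhs => rw [← map_inv_apply ρ (weyl (1 : F)) z, hw1 z hz]
    rw [weyl_inv one_ne_zero, CharTwo.neg_eq]
  obtain ⟨Y, hYdef⟩ : ∃ Y : F → A → A, ∀ s z, Y s z = nU ρ s (nL ρ 1 z) + nL ρ 1 (nU ρ s z) :=
    ⟨_, fun _ _ => rfl⟩
  have hY : ∀ s z, Z z → Z (Y s z) ∧ ((Y s z : A) : A ⧸ X) = phi σ s (z : A ⧸ X) := by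
    intro s z hz
    have h1 : nU ρ 1 (Y s z) = 0 := by
      rw [hYdef, map_add, nU_comm, hNM z hz.1, hNM _ (by rw [nU_comm, hz.1, map_zero]), h2]
    have h4 : ((Y s z : A) : A ⧸ X) = phi σ s (z : A ⧸ X) := by
      rw [hYdef, QuotientAddGroup.mk_add, (QuotientAddGroup.eq_zero_iff _).2
        (AddSubgroup.mem_sup_right (h3.nL_fixU_mem h2 1 (ha z hz s))), add_zero, phi, hσM, hσN]
    exact ⟨⟨h1, h4 ▸ h3'.phi_mem h2' s hz.2⟩, h4⟩
  -- the main identity
  have hI : ∀ s : F, s ≠ 0 → ∀ z, Z z →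
      nU ρ s z + nU ρ s⁻¹ z = nU ρ (s * s) (Y s⁻¹ z) := by
    intro s hs z hz
    have hM' : ∀ r, nL ρ r z = nL ρ 1 (Y r z) + nU ρ r z := by
      intro r
      have h1 : ρ (weyl (1 : F)) (ρ (up r) (nL ρ 1 z)) = ρ (lo r) z := by
        rw [← map_mul_apply, weyl_mul_up one_ne_zero, map_mul_apply, hw1' z hz.1, inv_one,
          mul_one, mul_one, CharTwo.neg_eq]
      have hYr := (hY r z hz).1.1
      have hn : nU ρ r (nL ρ 1 z) = Y r z + nL ρ 1 (nU ρ r z) := by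
        rw [hYdef, add_assoc, h2, add_zero]
      rw [map_up, map_add, hw1' z hz.1, hn, map_add, hw1 _ hYr,
        hw1' _ (by rw [nU_comm, hz.1, map_zero]), map_lo] at h1
      exact (add_left_cancel h1).symm
    have hws : ∀ r : F, r ≠ 0 →
        ρ (weyl r) z = nU ρ r z + nU ρ r⁻¹ z + nL ρ 1 (Y r⁻¹ z) := by
      intro r hr
      have hanti := h3.anti h2 hr z
      have hanti' := h3.anti h2 hr (nU ρ r z)
      rw [(mem_fixU ρ).1 (ha z hz r) r, map_zero, add_zero] at hanti'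
      have hN : nU ρ r (nL ρ r⁻¹ z) = z + nL ρ r⁻¹ (nU ρ r z) := by
        rw [← sub_eq_add_of_two h2]
        exact eq_sub_of_add_eq hanti
      rw [weyl, map_mul_apply, map_mul_apply, map_up ρ r z, CharTwo.neg_eq, map_lo, map_up,
        map_add (nL ρ r⁻¹), map_add, map_add, map_add, (mem_fixU ρ).1 (ha z hz r) r, hN, hanti',
        hM' r⁻¹]
      have e : ∀ p q m c : A, z + p + (q + c + m) + (p + 0 + (z + m + p)) =
          p + c + q + (z + z) + (m + m) + (p + p) := fun p q m c => by abel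
      rw [e, h2, h2, h2, add_zero, add_zero, add_zero]
    set h := fun v => ρ (weyl s) (ρ (weyl (1 : F)) v)
    have hc : h (ρ (up 1) (nL ρ 1 z)) = ρ (up (s * s)) (h (nL ρ 1 z)) := by
      show ρ (weyl s) (ρ (weyl (1 : F)) _) = ρ (up (s * s)) (ρ (weyl s) (ρ (weyl (1 : F)) _))
      simp only [← map_mul_apply]
      congr 2
      rw [weyl_mul_up one_ne_zero, ← mul_assoc (weyl s), weyl_mul_lo hs]
      simp [mul_assoc]
    have hhM : h (nL ρ 1 z) = nU ρ s z + nU ρ s⁻¹ z + nL ρ 1 (Y s⁻¹ z) := by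
      show ρ (weyl s) (ρ (weyl (1 : F)) _) = _
      rw [hw1' z hz.1, hws s hs]
    have hhz : h z = nL ρ 1 (nU ρ s z + nU ρ s⁻¹ z) + Y s z := by
      show ρ (weyl s) (ρ (weyl (1 : F)) z) = _
      rw [← map_mul_apply, weyl_mul_weyl_one hs, map_mul_apply, hws s⁻¹ (inv_ne_zero hs), inv_inv,
        map_add, hw1' _ (hY s z hz).1.1, hw1 _ (by rw [map_add, nU_comm, hz.1, map_zero, zero_add,
          nU_comm, hz.1, map_zero]), add_comm (nU ρ s⁻¹ z)]
    have hlin : h (ρ (up 1) (nL ρ 1 z)) = h (nL ρ 1 z) + h z := by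
      show ρ (weyl s) (ρ (weyl (1 : F)) _) = _
      rw [map_up, hNM z hz.1, map_add, map_add]
    rw [hlin, map_up] at hc
    have h5 := congrArg (nU ρ 1) (add_left_cancel hc)
    have hker : nU ρ 1 (nU ρ s z + nU ρ s⁻¹ z) = 0 := by
      rw [map_add, nU_comm, hz.1, map_zero, zero_add, nU_comm, hz.1, map_zero]
    have hfix : nU ρ (s * s) (nU ρ s z + nU ρ s⁻¹ z) = 0 :=
      (mem_fixU ρ).1 (add_mem (ha z hz s) (ha z hz s⁻¹)) _
    rw [hhz, hhM] at h5
    rw [map_add (nU ρ 1), (hY s z hz).1.1, add_zero, hNM _ hker, map_add (nU ρ (s * s)), hfix,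
      zero_add, nU_comm ρ 1 (s * s), hNM _ (hY s⁻¹ z hz).1.1] at h5
    exact h5
  -- consequences
  have hA1 : ∀ u : F, u ≠ 0 → ∀ z, Z z → nU ρ u⁻¹ z = nU ρ u (Y u⁻¹ z) := by
    intro u hu z hz
    obtain ⟨s, hsu⟩ : ∃ s : F, s * s = u⁻¹ := by
      haveI : Fact (Nat.Prime 2) := ⟨Nat.prime_two⟩
      obtain ⟨s, hs⟩ := (Finite.injective_iff_surjective (f := frobenius F 2)).1
        (frobenius_inj F 2) u⁻¹
      exact ⟨s, by rw [← hs, frobenius_def, pow_two]⟩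
    have hs : s ≠ 0 := fun h => inv_ne_zero hu (by rw [← hsu, h, zero_mul])
    set z' := Y s z
    have hz' := hY s z hz
    have e1 := hI s hs z' hz'.1
    have e2 := hI s⁻¹ (inv_ne_zero hs) z' hz'.1
    rw [inv_inv, add_comm, e1] at e2
    have hl : nU ρ (s * s) (Y s⁻¹ z') = nU ρ (s * s) z := by
      refine hwd _ _ (hY _ _ hz'.1).1 hz ?_ _
      rw [(hY _ _ hz'.1).2, hz'.2]
      have := h3'.phi_inv h2' (inv_ne_zero hs) hz.2
      rwa [inv_inv] at this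
    have hr : nU ρ (s⁻¹ * s⁻¹) (Y s z') = nU ρ (s⁻¹ * s⁻¹) (Y (s * s) z) := by
      refine hwd _ _ (hY _ _ hz'.1).1 (hY _ _ hz).1 ?_ _
      rw [(hY _ _ hz'.1).2, hz'.2, (hY _ _ hz).2, h3'.phi_sq h2' s hz.2]
    rw [hl, hr, ← mul_inv, hsu, inv_inv] at e2
    exact e2
  have hE : ∀ s : F, ∀ z, Z z → nU ρ (s * s) z = nU ρ s (Y s z) + nU ρ s z := by
    intro s z hz
    rcases eq_or_ne s 0 with rfl | hs
    · simp only [mul_zero, nU_zero, add_zero]
    have hz' := hY s z hz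
    have e1 := hI s hs _ hz'.1
    have hl : nU ρ (s * s) (Y s⁻¹ (Y s z)) = nU ρ (s * s) z := by
      refine hwd _ _ (hY _ _ hz'.1).1 hz ?_ _
      rw [(hY _ _ hz'.1).2, hz'.2]
      have := h3'.phi_inv h2' (inv_ne_zero hs) hz.2
      rwa [inv_inv] at this
    have h6 := hA1 s⁻¹ (inv_ne_zero hs) z hz
    rw [inv_inv] at h6
    rw [hl, ← h6] at e1
    exact e1.symm
  have hzero : ∀ z, Z z → ∀ s, nU ρ s z = 0 := by
    intro z hz s
    have hadd : ∀ r t, nU ρ (r + t) z = nU ρ r z + nU ρ t z := fun r t => by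
      rw [nU_add', (mem_fixU ρ).1 (ha z hz t) r, add_zero]
    have hE1 := hE (s + 1) z hz
    rw [show (s + 1) * (s + 1) = s * s + 1 by
      rw [add_mul, mul_add, mul_add, mul_one, one_mul, one_mul,
        show s * s + s + (s + 1) = s * s + 1 + (s + s) by ring, CharTwo.add_self_eq_zero, add_zero],
      hadd, hadd, hE s z hz, hz.1, add_zero, add_zero] at hE1
    have hy : ∀ r, nU ρ r (Y (s + 1) z) = nU ρ r (Y s z) + nU ρ r z := by
      intro r
      rw [← map_add]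
      refine hwd _ _ (hY _ _ hz).1 ⟨?_, ?_⟩ ?_ r
      · rw [map_add, (hY s z hz).1.1, hz.1, add_zero]
      · rw [QuotientAddGroup.mk_add]; exact add_mem (hY s z hz).1.2 hz.2
      · rw [QuotientAddGroup.mk_add, (hY _ _ hz).2, (hY s z hz).2,
          h3'.phi_add h2' s 1 hz.2, h3'.phi_one h2' hz.2]
    have hs1 : nU ρ (s + 1) (Y s z) = nU ρ s (Y s z) := by
      rw [nU_add', (hY s z hz).1.1, map_zero, add_zero, add_zero]
    rw [hy, hs1, hadd, hz.1, add_zero,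
      show nU ρ s (Y s z) + nU ρ s z + nU ρ s z = nU ρ s (Y s z) + (nU ρ s z + nU ρ s z) by abel,
      h2, add_zero] at hE1
    exact add_left_cancel (a := nU ρ s (Y s z)) (by rw [add_zero]; exact hE1)
  -- the contradiction
  have hvN : nU ρ 1 v ∈ X := by
    have := (mem_fixU σ).1 hx 1
    rwa [hσN, QuotientAddGroup.eq_zero_iff] at this
  have hnn : nU ρ 1 (nU ρ 1 v) = 0 := by
    have := nU_add' ρ (1 : F) 1 v
    rwa [CharTwo.add_self_eq_zero, nU_zero, h2, zero_add, eq_comm] at this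
  have hf := h3.mem_fixU_of_ker h2 hvN hnn
  have hmk : ((v + nL ρ 1 (nU ρ 1 v) : A) : A ⧸ X) = (v : A ⧸ X) := by
    rw [QuotientAddGroup.mk_add, (QuotientAddGroup.eq_zero_iff _).2
      (AddSubgroup.mem_sup_right (h3.nL_fixU_mem h2 1 hf)), add_zero]
  have hz : Z (v + nL ρ 1 (nU ρ 1 v)) := ⟨by rw [map_add, hNM _ hnn, h2], hmk ▸ hx⟩
  apply hx0
  rw [← hmk, QuotientAddGroup.eq_zero_iff]
  exact AddSubgroup.mem_sup_left ((mem_fixU ρ).2 fun s => hzero _ hz s)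

theorem Fpf3.quad [Finite A] [Finite F] : Quad ρ := fun t s v => by
  obtain ⟨a, ha, b, hb, rfl⟩ := AddSubgroup.mem_sup.1 ((h3.sup_eq_top h2).ge (AddSubgroup.mem_top v))
  rw [map_add, (mem_fixU ρ).1 ha, zero_add, (mem_fixU ρ).1 (h3.nU_fixL_mem h2 s hb)]

end Facts

end Cfsg.Agent.Lib.SL2Module
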